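import Mathlib.RingTheory.HopfAlgebra.Quotient
import Mathlib.RingTheory.TensorProduct.Maps

/-!
# Hopf ideals of commutative Hopf algebras in terms of algebra maps (any commutative base ring)
-/

set_option autoImplicit false
universe u v
open TensorProduct

namespace K502.HopfIdealCrit

variable (R : Type u) [CommRing R] {A : Type v} [CommRing A] [HopfAlgebra R A]

/-- Criterion for a Hopf ideal, in terms of algebra maps. -/
theorem isHopfIdeal_of (I : Ideal A)
    (h1 : ∀ x ∈ I, Bialgebra.counitAlgHom R A x = 0)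
    (h2 : ∀ x ∈ I, (Algebra.TensorProduct.map (Ideal.Quotient.mkₐ R I) (Ideal.Quotient.mkₐ R I))
      (Bialgebra.comulAlgHom R A x) = 0)
    (h3 : ∀ x ∈ I, HopfAlgebra.antipodeAlgHom R A x ∈ I) : I.IsHopfIdeal R where
  counit_eq_zero := fun x hx => h1 x hx
  map_mkQ_comul_eq_zero := fun x hx => h2 x hx
  antipode_mem := fun x hx => h3 x hx

theorem counit_of_hopfIdeal (J : Ideal A) [J.IsHopfIdeal R] (x : A) (hx : x ∈ J) :
    Bialgebra.counitAlgHom R A x = 0 :=
  Submodule.IsCoideal.counit_eq_zero (I := J.restrictScalars R) hx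

theorem comul_of_hopfIdeal (J : Ideal A) [J.IsHopfIdeal R] (x : A) (hx : x ∈ J) :
    (Algebra.TensorProduct.map (Ideal.Quotient.mkₐ R J) (Ideal.Quotient.mkₐ R J))
      (Bialgebra.comulAlgHom R A x) = 0 :=
  Submodule.IsCoideal.map_mkQ_comul_eq_zero (I := J.restrictScalars R) hx

theorem antipode_of_hopfIdeal (J : Ideal A) [J.IsHopfIdeal R] (x : A) (hx : x ∈ J) :
    HopfAlgebra.antipodeAlgHom R A x ∈ J :=
  Ideal.IsHopfIdeal.antipode_mem (R := R) hx

end K502.HopfIdealCrit
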