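import Groth.Agent.Hopf.K503.Conn
import Groth.Agent.Hopf.K502.HopfIdealCrit
import Groth.Agent.UnramB.IntHensel
import Groth.Agent.EtpbcB.StrHensEquiv

/-!
# The unit component of a finite group scheme over a local ring
-/

set_option autoImplicit false
universe u v
open TensorProduct

namespace K502.UnitComp

/-- A local ring integral over a henselian local ring is henselian (two universes). -/
theorem henselian_of_isIntegral {S : Type u} {T : Type v} [CommRing S] [HenselianLocalRing S]
    [CommRing T] [IsLocalRing T] [Algebra S T] [Algebra.IsIntegral S T] : HenselianLocalRing T := by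
  have hS : HenselianLocalRing (ULift.{v} S) :=
    Groth.Agent.EtpbcB.StrHensEquiv.henselianLocalRing_of_ringEquiv (ULift.ringEquiv (R := S)).symm
  have hT : IsLocalRing (ULift.{u} T) :=
    IsLocalRing.of_surjective' (ULift.ringEquiv (R := T)).symm.toRingHom
      (ULift.ringEquiv (R := T)).symm.surjective
  let φ : ULift.{v} S →+* ULift.{u} T :=
    ((ULift.ringEquiv (R := T)).symm.toRingHom.comp (algebraMap S T)).comp
      (ULift.ringEquiv (R := S)).toRingHom
  have hφ : φ.IsIntegral := by
    refine RingHom.IsIntegral.trans _ _ (RingHom.isIntegral_of_surjective _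
      (ULift.ringEquiv (R := S)).surjective) (RingHom.IsIntegral.trans _ _
      (algebraMap_isIntegral_iff.2 inferInstance) (RingHom.isIntegral_of_surjective _
      (ULift.ringEquiv (R := T)).symm.surjective))
  let _ : Algebra (ULift.{v} S) (ULift.{u} T) := φ.toAlgebra
  have : Algebra.IsIntegral (ULift.{v} S) (ULift.{u} T) := ⟨hφ⟩
  have h2 : HenselianLocalRing (ULift.{u} T) :=
    Groth.Agent.UnramB.IntHensel.henselianLocalRing_of_isIntegral (ULift.{v} S) (ULift.{u} T)
  exact Groth.Agent.EtpbcB.StrHensEquiv.henselianLocalRing_of_ringEquiv (ULift.ringEquiv (R := T))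

variable (R : Type u) [CommRing R] (A : Type v) [CommRing A] [HopfAlgebra R A]
  (e : A) (he : IsIdempotentElem e) (hε : Bialgebra.counitAlgHom R A e = 1)

/-- The counit of the quotient `A / (1 - e)`. -/
noncomputable def counitQ : (A ⧸ Ideal.span ({1 - e} : Set A)) →ₐ[R] R :=
  Ideal.Quotient.liftₐ _ (Bialgebra.counitAlgHom R A) (by
    intro a ha
    obtain ⟨b, rfl⟩ := Ideal.mem_span_singleton.1 ha
    rw [map_mul, map_sub, map_one, hε, sub_self, zero_mul])

@[simp] theorem counitQ_mk (a : A) :
    counitQ R A e hε (Ideal.Quotient.mk _ a) = Bialgebra.counitAlgHom R A a := rfl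

theorem mk_e : Ideal.Quotient.mk (Ideal.span ({1 - e} : Set A)) e = 1 := by
  have h : (1 : A) - e ∈ Ideal.span ({1 - e} : Set A) := Ideal.mem_span_singleton_self _
  rw [← Ideal.Quotient.eq_zero_iff_mem, map_sub, map_one] at h
  exact (sub_eq_zero.1 h).symm

include he hε in
/-- The unit component of a finite group scheme over a local ring is a closed subgroup. -/
theorem isHopfIdeal [Nontrivial R] [Module.Finite R A] [IsLocalRing (A ⧸ Ideal.span ({1 - e} : Set A))] :
    (Ideal.span ({1 - e} : Set A)).IsHopfIdeal R := by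
  set B := A ⧸ Ideal.span ({1 - e} : Set A) with hB
  let π : A →ₐ[R] B := Ideal.Quotient.mkₐ R (Ideal.span ({1 - e} : Set A))
  let εb : B →ₐ[R] R := counitQ R A e hε
  have hεπ : εb.comp π = Bialgebra.counitAlgHom R A := AlgHom.ext fun _ => rfl
  have hπe : π e = 1 := mk_e A e
  have hker : ∀ a : A, π a = 0 ↔ a ∈ Ideal.span ({1 - e} : Set A) := fun a =>
    Ideal.Quotient.eq_zero_iff_mem
  have key : ∀ z : B ⊗[R] B, z - (1 : B) ⊗ₜ[R] (Algebra.TensorProduct.lid R B
      (Algebra.TensorProduct.map εb (AlgHom.id R B) z)) ∈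
      (RingHom.ker εb).map (Algebra.TensorProduct.includeLeftRingHom : B →+* B ⊗[R] B) := by
    intro z
    induction z with
    | zero => simp
    | tmul a b =>
      rw [Algebra.TensorProduct.map_tmul, Algebra.TensorProduct.lid_tmul, AlgHom.id_apply]
      have h1 : a ⊗ₜ[R] b - (1 : B) ⊗ₜ[R] (εb a • b) =
          (a - algebraMap R B (εb a)) ⊗ₜ[R] (1 : B) * (1 : B) ⊗ₜ[R] b := by
        rw [Algebra.TensorProduct.tmul_mul_tmul, mul_one, one_mul, TensorProduct.sub_tmul,
          TensorProduct.tmul_smul, TensorProduct.smul_tmul', Algebra.smul_def (εb a) (1 : B), mul_one]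
      rw [h1]
      apply Ideal.mul_mem_right
      refine Ideal.mem_map_of_mem (Algebra.TensorProduct.includeLeftRingHom : B →+* B ⊗[R] B) ?_
      rw [RingHom.mem_ker, map_sub, AlgHom.commutes]
      exact sub_self _
    | add x y hx hy =>
      rw [map_add, map_add, TensorProduct.tmul_add]
      have := Ideal.add_mem _ hx hy
      convert this using 1
      abel
  have hcomul : (Algebra.TensorProduct.map π π) (Bialgebra.comulAlgHom R A (1 - e)) = 0 := by
    have hint : (Algebra.TensorProduct.includeLeftRingHom : B →+* B ⊗[R] B).IsIntegral := by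
      have : Algebra.IsIntegral B (B ⊗[R] B) := inferInstance
      exact algebraMap_isIntegral_iff.2 this
    refine K503.Conn.idem_eq_zero (Algebra.TensorProduct.includeLeftRingHom : B →+* B ⊗[R] B) hint
      (RingHom.ker εb) (RingHom.ker_ne_top _) ((he.one_sub.map _).map _) ?_
    have h1 : ∀ x : A, Algebra.TensorProduct.lid R B (Algebra.TensorProduct.map εb (AlgHom.id R B)
        (Algebra.TensorProduct.map π π (Bialgebra.comulAlgHom R A x))) = π x := by
      intro x
      have h2 : ∀ z : A ⊗[R] A, Algebra.TensorProduct.lid R B (Algebra.TensorProduct.map εb (AlgHom.id R B)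
          (Algebra.TensorProduct.map π π z)) =
          π (TensorProduct.lid R A (LinearMap.rTensor A (Coalgebra.counit (R := R) (A := A)) z)) := by
        intro z
        induction z with
        | zero => simp
        | tmul a b =>
          rw [Algebra.TensorProduct.map_tmul, Algebra.TensorProduct.map_tmul, Algebra.TensorProduct.lid_tmul,
            LinearMap.rTensor_tmul, TensorProduct.lid_tmul, map_smul]
          rfl
        | add x y hx hy => simp only [map_add, hx, hy]
      rw [h2]
      congr 1
      change TensorProduct.lid R A (LinearMap.rTensor A (Coalgebra.counit (R := R) (A := A))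
        (Coalgebra.comul (R := R) x)) = x
      rw [Coalgebra.rTensor_counit_comul, TensorProduct.lid_tmul, one_smul]
    have h3 := key ((Algebra.TensorProduct.map π π) (Bialgebra.comulAlgHom R A (1 - e)))
    rw [h1, map_sub π, map_one π, hπe, sub_self, TensorProduct.tmul_zero, sub_zero] at h3
    exact h3
  have hanti : π (HopfAlgebra.antipodeAlgHom R A e) = 1 := by
    refine K503.Conn.idem_eq_one ((he.map _).map _) (εb : B →+* R) ?_
    change (εb.comp π) (HopfAlgebra.antipode R e) = 1
    rw [hεπ]
    change Coalgebra.counit (R := R) (HopfAlgebra.antipode R e) = 1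
    rw [HopfAlgebra.counit_antipode]
    exact hε
  refine K502.HopfIdealCrit.isHopfIdeal_of R _ ?_ ?_ ?_
  · intro x hx
    rw [← hεπ, AlgHom.comp_apply, (hker x).2 hx, map_zero]
  · intro x hx
    obtain ⟨b, rfl⟩ := Ideal.mem_span_singleton.1 hx
    rw [map_mul, map_mul]
    change (Algebra.TensorProduct.map π π) (Bialgebra.comulAlgHom R A (1 - e)) * _ = 0
    rw [hcomul, zero_mul]
  · intro x hx
    obtain ⟨b, rfl⟩ := Ideal.mem_span_singleton.1 hx
    rw [← hker, map_mul, map_mul, map_sub, map_sub, map_one, map_one, hanti, sub_self, zero_mul]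

include hε in
theorem residue_surjective [Nontrivial R] [IsLocalRing (A ⧸ Ideal.span ({1 - e} : Set A))] :
    Function.Surjective (⇑(IsLocalRing.residue (A ⧸ Ideal.span ({1 - e} : Set A))) ∘
      ⇑(algebraMap R (A ⧸ Ideal.span ({1 - e} : Set A)))) := by
  intro y
  obtain ⟨x, rfl⟩ := IsLocalRing.residue_surjective y
  refine ⟨counitQ R A e hε x, ?_⟩
  change IsLocalRing.residue _ (algebraMap R _ (counitQ R A e hε x)) = IsLocalRing.residue _ x
  rw [← sub_eq_zero, ← map_sub, IsLocalRing.residue_eq_zero_iff]
  refine IsLocalRing.le_maximalIdeal (RingHom.ker_ne_top (counitQ R A e hε)) ?_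
  rw [RingHom.mem_ker, map_sub, AlgHom.commutes]
  exact sub_self _

end K502.UnitComp
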