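import Groth.Agent.Hopf.K502.EtQuot
import Groth.Agent.Hopf.K502.UnitComp
import Groth.Agent.Proet.WEtaleBasic
import Mathlib.RingTheory.Unramified.Finite
import Mathlib.LinearAlgebra.TensorProduct.RightExactness
import Mathlib.RingTheory.Etale.Basic
import Groth.Prelude.Def_SGA3

/-!
# The connected-étale sequence over a local ring
-/

set_option autoImplicit false
universe u v w
open TensorProduct WithConv

namespace K502.ConnEt

open K502.FreeQuot K502.Pts K502.HopfQuot K502.EtQuot

/-- Rigidity: two maps from an unramified algebra to `T ⊗ Q`, with `Q` local and `T` finite, agreeing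
along a section of `Q` are equal. -/
theorem eq_of_unramified {R : Type*} [CommRing R] [Nontrivial R] {C : Type*} [CommRing C] [Algebra R C]
    [Algebra.EssFiniteType R C] [Algebra.FormallyUnramified R C] {T : Type*} [CommRing T] [Algebra R T]
    [Module.Finite R T] {Q : Type*} [CommRing Q] [Algebra R Q] [IsLocalRing Q] (ε : Q →ₐ[R] R)
    (f g : C →ₐ[R] T ⊗[R] Q)
    (h : (Algebra.TensorProduct.map (AlgHom.id R T) ε).comp f =
      (Algebra.TensorProduct.map (AlgHom.id R T) ε).comp g) : f = g := by
  obtain ⟨t, ht1, ht2⟩ := (Algebra.FormallyUnramified.iff_exists_tensorProduct (R := R) (S := C)).1 inferInstance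
  let θ : C ⊗[R] C →ₐ[R] T ⊗[R] Q := Algebra.TensorProduct.lift f g (fun _ _ => Commute.all _ _)
  let E : T ⊗[R] Q →ₐ[R] T ⊗[R] R := Algebra.TensorProduct.map (AlgHom.id R T) ε
  have h1 : E.comp θ = (E.comp f).comp (Algebra.TensorProduct.lmul' R) := by
    apply Algebra.TensorProduct.ext'
    intro a b
    rw [AlgHom.comp_apply, AlgHom.comp_apply, Algebra.TensorProduct.lift_tmul, Algebra.TensorProduct.lmul'_apply_tmul,
      map_mul, map_mul]
    congr 1
    exact (AlgHom.congr_fun h b).symm
  have h2 : E (1 - θ t) = 0 := by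
    have := AlgHom.congr_fun h1 t
    rw [AlgHom.comp_apply, AlgHom.comp_apply, ht2, map_one] at this
    rw [map_sub, map_one, this, sub_self]
  have hεs : Function.Surjective ε := fun r => ⟨algebraMap R Q r, by rw [AlgHom.commutes]; rfl⟩
  have h3 : 1 - θ t ∈ (RingHom.ker ε).map (Algebra.TensorProduct.includeRight : Q →ₐ[R] T ⊗[R] Q) := by
    rw [← Algebra.TensorProduct.lTensor_ker ε hεs]
    exact h2
  have hint : ((Algebra.TensorProduct.includeRight : Q →ₐ[R] T ⊗[R] Q) : Q →+* T ⊗[R] Q).IsIntegral := by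
    have h4 : (Algebra.TensorProduct.includeLeftRingHom : Q →+* Q ⊗[R] T).IsIntegral := by
      have : Algebra.IsIntegral Q (Q ⊗[R] T) := inferInstance
      exact algebraMap_isIntegral_iff.2 this
    have h5 := RingHom.IsIntegral.trans _ _ h4
      (RingHom.isIntegral_of_surjective ((Algebra.TensorProduct.comm R Q T : Q ⊗[R] T ≃ₐ[R] T ⊗[R] Q) :
        Q ⊗[R] T →+* T ⊗[R] Q) (Algebra.TensorProduct.comm R Q T).surjective)
    have h6 : ((Algebra.TensorProduct.comm R Q T : Q ⊗[R] T ≃ₐ[R] T ⊗[R] Q) :
        Q ⊗[R] T →+* T ⊗[R] Q).comp (Algebra.TensorProduct.includeLeftRingHom : Q →+* Q ⊗[R] T) =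
        ((Algebra.TensorProduct.includeRight : Q →ₐ[R] T ⊗[R] Q) : Q →+* T ⊗[R] Q) := by
      ext q
      simp
    rwa [h6] at h5
  have h7 := K503.Conn.map_le_jacobson _ hint (RingHom.ker ε) (RingHom.ker_ne_top _) h3
  have h8 : IsUnit (θ t) := by
    have := Ideal.mem_jacobson_bot.1 h7 (-1)
    convert this using 1
    ring
  apply AlgHom.ext
  intro s
  have h4 := congrArg θ (ht1 s)
  rw [map_mul, map_sub, map_zero, Algebra.TensorProduct.lift_tmul, Algebra.TensorProduct.lift_tmul, map_one, map_one,
    one_mul, mul_one] at h4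
  exact (sub_eq_zero.1 ((h8.mul_left_eq_zero).1 h4)).symm

section

variable (R : Type u) [CommRing R] [Nontrivial R] {A : Type v} [CommRing A] [HopfAlgebra R A] [Module.Finite R A]
  (e : A) (hε : Bialgebra.counitAlgHom R A e = 1)
  [(Ideal.span ({1 - e} : Set A)).IsHopfIdeal R]

/-- abbreviation for the ideal -/
abbrev II : Ideal A := Ideal.span ({1 - e} : Set A)

omit [Nontrivial R] [Module.Finite R A] [(Ideal.span ({1 - e} : Set A)).IsHopfIdeal R] in
theorem map_counitQ_rho : (Algebra.TensorProduct.map (AlgHom.id R A) (K502.UnitComp.counitQ R A e hε)).comp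
    (rhoI R (II e)) = Algebra.TensorProduct.includeLeft := by
  rw [rhoI, ← AlgHom.comp_assoc, ← Algebra.TensorProduct.map_comp, AlgHom.comp_id]
  have h1 : (K502.UnitComp.counitQ R A e hε).comp (Ideal.Quotient.mkₐ R (II e)) = Bialgebra.counitAlgHom R A := rfl
  rw [h1]
  ext a
  exact Coalgebra.lTensor_counit_comul (R := R) a

include hε in
/-- Maps from unramified algebras to `A` take values in the invariants. -/
theorem mem_of_unramified [IsLocalRing (A ⧸ II e)] {C : Type w} [CommRing C] [Algebra R C] [Algebra.EssFiniteType R C]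
    [Algebra.FormallyUnramified R C] (φ : C →ₐ[R] A) (c : C) : φ c ∈ EtQuot.B R (II e) := by
  have h := eq_of_unramified (K502.UnitComp.counitQ R A e hε) ((rhoI R (II e)).comp φ)
    ((Algebra.TensorProduct.includeLeft : A →ₐ[R] A ⊗[R] (A ⧸ II e)).comp φ) (by
      rw [← AlgHom.comp_assoc, map_counitQ_rho]
      ext c
      simp)
  exact AlgHom.congr_fun h c

include hε in
theorem lTensor_comm_of_unramified [IsLocalRing (A ⧸ II e)] {C : Type w} [CommRing C] [Algebra R C]
    [Algebra.EssFiniteType R C] [Algebra.FormallyUnramified R C] (φ : C →ₐ[R] A ⊗[R] A) (c : C) :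
    (rhoI R (II e)).toLinearMap.lTensor A (φ c) =
      (Algebra.TensorProduct.includeLeft : A →ₐ[R] A ⊗[R] (A ⧸ II e)).toLinearMap.lTensor A (φ c) := by
  let Q := A ⧸ II e
  let ε := K502.UnitComp.counitQ R A e hε
  let α : A ⊗[R] (A ⊗[R] Q) →ₐ[R] (A ⊗[R] A) ⊗[R] Q := (Algebra.TensorProduct.assoc R R R A A Q).symm.toAlgHom
  let αR : A ⊗[R] (A ⊗[R] R) →ₐ[R] (A ⊗[R] A) ⊗[R] R := (Algebra.TensorProduct.assoc R R R A A R).symm.toAlgHom
  have hα : Function.Injective α := (Algebra.TensorProduct.assoc R R R A A Q).symm.injective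
  have h0 : (Algebra.TensorProduct.map (AlgHom.id R (A ⊗[R] A)) ε).comp α =
      αR.comp (Algebra.TensorProduct.map (AlgHom.id R A) (Algebra.TensorProduct.map (AlgHom.id R A) ε)) := by
    ext a
    · simp [α, αR, Algebra.TensorProduct.one_def]
    · simp [α, αR]
    · simp [α, αR]
  have h1 : ∀ f : A →ₐ[R] A ⊗[R] Q, (Algebra.TensorProduct.map (AlgHom.id R (A ⊗[R] A)) ε).comp
      (α.comp (Algebra.TensorProduct.map (AlgHom.id R A) f)) =
      αR.comp (Algebra.TensorProduct.map (AlgHom.id R A) ((Algebra.TensorProduct.map (AlgHom.id R A) ε).comp f)) := by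
    intro f
    rw [← AlgHom.comp_assoc, h0, AlgHom.comp_assoc, ← Algebra.TensorProduct.map_comp, AlgHom.comp_id]
  have h2 : (Algebra.TensorProduct.map (AlgHom.id R A) ε).comp
      (Algebra.TensorProduct.includeLeft : A →ₐ[R] A ⊗[R] Q) = Algebra.TensorProduct.includeLeft := by
    ext a
    simp
  have h := eq_of_unramified ε ((α.comp (Algebra.TensorProduct.map (AlgHom.id R A) (rhoI R (II e)))).comp φ)
    ((α.comp (Algebra.TensorProduct.map (AlgHom.id R A)
      (Algebra.TensorProduct.includeLeft : A →ₐ[R] A ⊗[R] Q))).comp φ) (by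
      change ((Algebra.TensorProduct.map (AlgHom.id R (A ⊗[R] A)) ε).comp
        (α.comp (Algebra.TensorProduct.map (AlgHom.id R A) (rhoI R (II e))))).comp φ =
        ((Algebra.TensorProduct.map (AlgHom.id R (A ⊗[R] A)) ε).comp
        (α.comp (Algebra.TensorProduct.map (AlgHom.id R A)
          (Algebra.TensorProduct.includeLeft : A →ₐ[R] A ⊗[R] Q)))).comp φ
      rw [h1, h1, h2, map_counitQ_rho])
  exact hα (AlgHom.congr_fun h c)

end

section Main

variable (R : Type u) [CommRing R] [IsLocalRing R] [IsNoetherianRing R] {A : Type u} [CommRing A] [HopfAlgebra R A]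
  [Module.Finite R A] [Module.Flat R A]
  (e : A) (he : IsIdempotentElem e) (hε : Bialgebra.counitAlgHom R A e = 1)
  [(Ideal.span ({1 - e} : Set A)).IsHopfIdeal R] [IsLocalRing (A ⧸ Ideal.span ({1 - e} : Set A))]

include he in
omit [IsLocalRing R] [IsNoetherianRing R] [HopfAlgebra R A] [Module.Finite R A] [Module.Flat R A]
  [(Ideal.span ({1 - e} : Set A)).IsHopfIdeal R] [IsLocalRing (A ⧸ Ideal.span ({1 - e} : Set A))] [CommRing R] in
theorem II_sq : (II e) ^ 2 = II e := by
  rw [II, Ideal.span_singleton_pow, sq, he.one_sub.eq]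

include he in
omit [IsLocalRing R] [(Ideal.span ({1 - e} : Set A)).IsHopfIdeal R] [IsLocalRing (A ⧸ Ideal.span ({1 - e} : Set A))] in
theorem projective_quot : Module.Projective R (A ⧸ II e) := by
  have : Module.Flat R (A ⧸ II e) := K503.Conn.flat_quot e he
  have : Module.FinitePresentation R (A ⧸ II e) := Module.finitePresentation_of_finite R _
  exact Module.Flat.projective_of_finitePresentation

include he in
omit [IsLocalRing R] [IsLocalRing (A ⧸ Ideal.span ({1 - e} : Set A))] in
theorem etale_B : Algebra.Etale R (EtQuot.B R (II e)) := by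
  have := projective_quot R e he
  have hff := faithfullyFlat_inv R (II e)
  have h1 := formallyUnramified R (II e) (II_sq e he)
  have hfin : Module.Finite R (EtQuot.B R (II e)) :=
    Module.Finite.of_injective (EtQuot.B R (II e)).val.toLinearMap Subtype.val_injective
  have hflat : Module.Flat R (EtQuot.B R (II e)) :=
    Groth.Agent.Proet.WEtaleBasic.flat_of_faithfullyFlat_comp R _ A
  have h2 : Module.FinitePresentation R (EtQuot.B R (II e)) := Module.finitePresentation_of_finite R _
  have h3 : Algebra.FinitePresentation R (EtQuot.B R (II e)) := inferInstance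
  exact Algebra.Etale.of_formallyUnramified_of_flat

include he hε in
theorem isHopfSubalgebra : SGA3.IsHopfSubalgebra R A (EtQuot.B R (II e)) := by
  have := projective_quot R e he
  have hff := faithfullyFlat_inv R (II e)
  have hflat : Module.Flat R (EtQuot.B R (II e)) :=
    Groth.Agent.Proet.WEtaleBasic.flat_of_faithfullyFlat_comp R _ A
  have het := etale_B R e he
  refine ⟨fun b hb => ?_, fun b hb => ?_⟩
  · let val : EtQuot.B R (II e) →ₗ[R] A := (EtQuot.B R (II e)).val.toLinearMap
    obtain ⟨z, hz⟩ := mem_range_of_eq A _ _ _ (lTensor_comul R (II e) b hb)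
    have hz' : val.lTensor A z = Coalgebra.comul (R := R) b := hz
    let w : (EtQuot.B R (II e)) ⊗[R] A := TensorProduct.comm R _ _ z
    have hw : val.rTensor A w = TensorProduct.comm R A A (Coalgebra.comul (R := R) b) := by
      rw [← hz']
      exact TensorProduct.map_comm _ _ z
    have h1 : (rhoI R (II e)).toLinearMap.lTensor (EtQuot.B R (II e)) w =
      (Algebra.TensorProduct.includeLeft : A →ₐ[R] A ⊗[R] (A ⧸ II e)).toLinearMap.lTensor
        (EtQuot.B R (II e)) w := by
      have hinj : Function.Injective (val.rTensor (A ⊗[R] (A ⧸ II e))) :=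
        Module.Flat.rTensor_preserves_injective_linearMap val Subtype.val_injective
      apply hinj
      have h2 : ∀ f : A →ₐ[R] A ⊗[R] (A ⧸ II e), val.rTensor (A ⊗[R] (A ⧸ II e))
          (f.toLinearMap.lTensor (EtQuot.B R (II e)) w) = f.toLinearMap.lTensor A
            (TensorProduct.comm R A A (Coalgebra.comul (R := R) b)) := by
        intro f
        rw [← hw, ← LinearMap.comp_apply, ← LinearMap.comp_apply, LinearMap.rTensor_comp_lTensor,
          LinearMap.lTensor_comp_rTensor]
      rw [h2, h2]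
      exact lTensor_comm_of_unramified R e hε (C := EtQuot.B R (II e))
        (((Algebra.TensorProduct.comm R A A : A ⊗[R] A ≃ₐ[R] A ⊗[R] A) : A ⊗[R] A →ₐ[R] A ⊗[R] A).comp
          ((Bialgebra.comulAlgHom R A).comp (EtQuot.B R (II e)).val)) ⟨b, hb⟩
    obtain ⟨w', hw'⟩ := mem_range_of_eq (EtQuot.B R (II e)) _ _ _ h1
    have hw'' : val.lTensor (EtQuot.B R (II e)) w' = w := hw'
    refine ⟨TensorProduct.comm R _ _ w', ?_⟩
    have h3 : TensorProduct.map val val w' = TensorProduct.comm R A A (Coalgebra.comul (R := R) b) := by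
      rw [← hw, ← hw'', ← LinearMap.comp_apply, LinearMap.rTensor_comp_lTensor]
    have h4 : TensorProduct.map val val (TensorProduct.comm R _ _ w') =
        TensorProduct.comm R A A (TensorProduct.map val val w') := by
      rw [TensorProduct.map_comm]
    refine h4.trans ?_
    rw [h3, TensorProduct.comm_comm]
  · exact mem_of_unramified R e hε (C := EtQuot.B R (II e))
      ((HopfAlgebra.antipodeAlgHom R A).comp (EtQuot.B R (II e)).val) ⟨b, hb⟩

include he in
theorem augIdealSpan_eq : SGA3.augIdealSpan R A (EtQuot.B R (II e)) = II e := by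
  have := projective_quot R e he
  conv_rhs => rw [← map_ker_εB R (II e)]
  apply le_antisymm
  · rw [SGA3.augIdealSpan, Ideal.span_le]
    rintro a ⟨ha1, ha2⟩
    exact Ideal.mem_map_of_mem (algebraMap (EtQuot.B R (II e)) A) (x := ⟨a, ha1⟩)
      (show (⟨a, ha1⟩ : EtQuot.B R (II e)) ∈ RingHom.ker (εB R (II e)) from ha2)
  · rw [Ideal.map_le_iff_le_comap]
    intro b hb
    exact Ideal.subset_span ⟨b.2, hb⟩

end Main

end K502.ConnEt
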