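import Groth.Agent.Hopf.K502.HopfQuot
import Mathlib.RingTheory.Flat.Equalizer
import Mathlib.RingTheory.Flat.FaithfullyFlat.Algebra
import Mathlib.RingTheory.Unramified.Basic
import Mathlib.RingTheory.Idempotents

/-!
# The quotient `G / H` when `H` is open in `G`: unramifiedness

`A` a commutative Hopf algebra, `I` a Hopf ideal, `A/I` finite projective, `B = inv (rhoI R I)`
the ring of right invariants (`Spec B = G / H`).
-/

set_option autoImplicit false
universe u v
open TensorProduct WithConv

namespace K502.EtQuot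

open K502.RPair K502.HopfGrpd K502.FreeQuot K502.Pts K502.HopfQuot

section Eq

variable {R : Type*} [CommRing R] {A C : Type*} [CommRing A] [CommRing C] [Algebra R A] [Algebra R C]

/-- elements of `M ⊗ A` equalized by `id ⊗ f`, `id ⊗ g`, for `M` flat, come from `M ⊗ Eq(f,g)`. -/
theorem mem_range_of_eq (M : Type*) [AddCommGroup M] [Module R M] [Module.Flat R M] (f g : A →ₐ[R] C)
    (z : M ⊗[R] A) (h : f.toLinearMap.lTensor M z = g.toLinearMap.lTensor M z) :
    ∃ w : M ⊗[R] (AlgHom.equalizer f g), (AlgHom.equalizer f g).val.toLinearMap.lTensor M w = z := by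
  have h1 := Module.Flat.eqLocus_lTensor_eq R M f.toLinearMap g.toLinearMap
  have h2 : z ∈ LinearMap.eqLocus (AlgebraTensorModule.lTensor R M f.toLinearMap)
      (AlgebraTensorModule.lTensor R M g.toLinearMap) := h
  rw [h1] at h2
  obtain ⟨w, hw⟩ := h2
  exact ⟨w, hw⟩

end Eq

variable (R : Type u) [CommRing R] {A : Type v} [CommRing A] [HopfAlgebra R A] (I : Ideal A)
  [I.IsHopfIdeal R]

/-- the ring of functions on the quotient. -/
noncomputable abbrev B : Subalgebra R A := inv (rhoI R I)

/-- the counit on the quotient. -/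
noncomputable def εB : B R I →ₐ[R] R := (Bialgebra.counitAlgHom R A).comp (B R I).val

theorem mk_of_mem (b : A) (hb : b ∈ B R I) : Ideal.Quotient.mkₐ R I b =
    algebraMap R (A ⧸ I) (Bialgebra.counitAlgHom R A b) := by
  let θ : A ⊗[R] (A ⧸ I) →ₐ[R] (A ⧸ I) := (Algebra.TensorProduct.lid R (A ⧸ I)).toAlgHom.comp
    (Algebra.TensorProduct.map (Bialgebra.counitAlgHom R A) (AlgHom.id R (A ⧸ I)))
  have h1 : θ.comp (rhoI R I) = Ideal.Quotient.mkₐ R I := by
    have h2 : θ.comp (Algebra.TensorProduct.map (AlgHom.id R A) (Ideal.Quotient.mkₐ R I)) =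
        (Ideal.Quotient.mkₐ R I).comp ((Algebra.TensorProduct.lid R A).toAlgHom.comp
          (Algebra.TensorProduct.map (Bialgebra.counitAlgHom R A) (AlgHom.id R A))) := by
      ext a
      · simp only [θ, AlgHom.comp_apply, Algebra.TensorProduct.map_tmul, Algebra.TensorProduct.includeLeft_apply,
          map_one, AlgHom.id_apply]
        change Bialgebra.counitAlgHom R A a • (1 : A ⧸ I) =
          Ideal.Quotient.mkₐ R I (Bialgebra.counitAlgHom R A a • (1 : A))
        rw [map_smul, map_one]
      · simp [θ]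
    rw [rhoI, ← AlgHom.comp_assoc, h2, AlgHom.comp_assoc]
    have h3 : ((Algebra.TensorProduct.lid R A).toAlgHom.comp
          (Algebra.TensorProduct.map (Bialgebra.counitAlgHom R A) (AlgHom.id R A))).comp
          (Bialgebra.comulAlgHom R A) = AlgHom.id R A := by
      ext a
      have h1 := Coalgebra.rTensor_counit_comul (R := R) a
      change (TensorProduct.lid R A) ((CoalgebraStruct.counit (R := R) (A := A)).rTensor A
        (CoalgebraStruct.comul (R := R) a)) = a
      rw [h1, TensorProduct.lid_tmul, one_smul]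
    rw [h3, AlgHom.comp_id]
  rw [← h1, AlgHom.comp_apply]
  have h4 : rhoI R I b = b ⊗ₜ 1 := hb
  rw [h4]
  simp [θ, Algebra.algebraMap_eq_smul_one]

variable [Module.Finite R (A ⧸ I)] [Module.Projective R (A ⧸ I)]

/-- The ideal of the unit point of `G / H` generates the ideal of `H`. -/
theorem map_ker_εB : (RingHom.ker (εB R I)).map (algebraMap (B R I) A) = I := by
  set 𝔞 := (RingHom.ker (εB R I)).map (algebraMap (B R I) A) with h𝔞
  apply le_antisymm
  · rw [h𝔞, Ideal.map_le_iff_le_comap]
    intro b hb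
    have h1 := mk_of_mem R I b.1 b.2
    have h2 : Bialgebra.counitAlgHom R A b.1 = 0 := hb
    rw [h2, map_zero] at h1
    exact Ideal.mem_comap.2 ((Ideal.Quotient.eq_zero_iff_mem (I := I)).1 h1)
  · intro x hx
    rw [← Ideal.Quotient.eq_zero_iff_mem]
    -- the map `A ⊗_B A → A / 𝔞`, `a ⊗ a' ↦ ε a * a'`.
    let εA : A →ₐ[B R I] (A ⧸ 𝔞) :=
      { toRingHom := (algebraMap R (A ⧸ 𝔞)).comp (Bialgebra.counitAlgHom R A : A →+* R)
        commutes' := by
          intro b
          have h1 : b.1 - algebraMap R A (Bialgebra.counitAlgHom R A b.1) ∈ 𝔞 := by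
            have h2 : b - algebraMap R (B R I) (εB R I b) ∈ RingHom.ker (εB R I) := by
              rw [RingHom.mem_ker, map_sub, AlgHom.commutes]
              exact sub_self _
            exact Ideal.mem_map_of_mem (algebraMap (B R I) A) h2
          rw [← Ideal.Quotient.eq_zero_iff_mem, map_sub, sub_eq_zero] at h1
          exact h1.symm }
    let Θ : A ⊗[B R I] A →ₐ[B R I] (A ⧸ 𝔞) := Algebra.TensorProduct.lift εA
      (Ideal.Quotient.mkₐ (B R I) 𝔞) (fun _ _ => Commute.all _ _)
    have hΘ : ∀ a a' : A, Θ (a ⊗ₜ a') = algebraMap R (A ⧸ 𝔞) (Bialgebra.counitAlgHom R A a) *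
      Ideal.Quotient.mk 𝔞 a' := fun _ _ => rfl
    -- transport to `A ⊗ A/I`
    let E := AlgEquiv.ofBijective (canB (rhoI R I)) (bijective_canB_rhoI R I)
    let Ξ : A ⊗[R] (A ⧸ I) →+* (A ⧸ 𝔞) := (Θ : A ⊗[B R I] A →+* (A ⧸ 𝔞)).comp
      (E.symm : A ⊗[R] (A ⧸ I) →+* A ⊗[B R I] A)
    have hΞ : ∀ a a' : A, Ξ ((a ⊗ₜ 1) * rhoI R I a') = Θ (a ⊗ₜ a') := by
      intro a a'
      have h1 : (a ⊗ₜ 1) * rhoI R I a' = E (a ⊗ₜ a') := (canB_tmul a a').symm
      rw [h1]
      change Θ (E.symm (E (a ⊗ₜ a'))) = _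
      rw [AlgEquiv.symm_apply_apply]
    have h1 : ∀ y : A ⊗[R] (A ⧸ I), Ξ y = Ξ ((1 : A) ⊗ₜ (Algebra.TensorProduct.lid R (A ⧸ I)
        (Algebra.TensorProduct.map (Bialgebra.counitAlgHom R A) (AlgHom.id R (A ⧸ I)) y))) := by
      intro y
      induction y using TensorProduct.induction_on with
      | zero => simp
      | add x y hx hy => rw [map_add, map_add, map_add, TensorProduct.tmul_add, map_add, hx, hy]
      | tmul a c =>
        have h2 : ∀ a : A, Ξ (a ⊗ₜ (1 : A ⧸ I)) = algebraMap R (A ⧸ 𝔞) (Bialgebra.counitAlgHom R A a) := by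
          intro a
          have := hΞ a 1
          rw [map_one, mul_one] at this
          rw [this, hΘ, map_one, mul_one]
        have h3 : a ⊗ₜ[R] c = (a ⊗ₜ (1 : A ⧸ I)) * ((1 : A) ⊗ₜ c) := by
          rw [Algebra.TensorProduct.tmul_mul_tmul, mul_one, one_mul]
        have h4 : (1 : A) ⊗ₜ[R] ((Bialgebra.counitAlgHom R A a) • c) =
            ((algebraMap R A (Bialgebra.counitAlgHom R A a)) ⊗ₜ (1 : A ⧸ I)) * ((1 : A) ⊗ₜ c) := by
          rw [Algebra.TensorProduct.tmul_mul_tmul, mul_one, one_mul, TensorProduct.tmul_smul,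
            TensorProduct.smul_tmul', Algebra.algebraMap_eq_smul_one]
        rw [Algebra.TensorProduct.map_tmul, Algebra.TensorProduct.lid_tmul, AlgHom.id_apply, h4, h3,
          map_mul, map_mul, h2, h2, AlgHom.commutes]
        rfl
    have h2 : Ξ (rhoI R I x) = Ideal.Quotient.mk 𝔞 x := by
      have := hΞ 1 x
      rw [← Algebra.TensorProduct.one_def, one_mul] at this
      rw [this, hΘ, map_one, map_one, one_mul]
    rw [← h2, h1]
    have h3 : Algebra.TensorProduct.lid R (A ⧸ I)
        (Algebra.TensorProduct.map (Bialgebra.counitAlgHom R A) (AlgHom.id R (A ⧸ I)) (rhoI R I x)) =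
          Ideal.Quotient.mk I x := by
      have h2 : ((Algebra.TensorProduct.lid R (A ⧸ I)).toAlgHom.comp
          (Algebra.TensorProduct.map (Bialgebra.counitAlgHom R A) (AlgHom.id R (A ⧸ I)))).comp
          (Algebra.TensorProduct.map (AlgHom.id R A) (Ideal.Quotient.mkₐ R I)) =
        (Ideal.Quotient.mkₐ R I).comp ((Algebra.TensorProduct.lid R A).toAlgHom.comp
          (Algebra.TensorProduct.map (Bialgebra.counitAlgHom R A) (AlgHom.id R A))) := by
        ext a
        · simp only [AlgHom.comp_apply, Algebra.TensorProduct.map_tmul, Algebra.TensorProduct.includeLeft_apply,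
            map_one, AlgHom.id_apply]
          change Bialgebra.counitAlgHom R A a • (1 : A ⧸ I) =
            Ideal.Quotient.mkₐ R I (Bialgebra.counitAlgHom R A a • (1 : A))
          rw [map_smul, map_one]
        · simp
      have h3 := AlgHom.congr_fun h2 (Bialgebra.comulAlgHom R A x)
      refine h3.trans ?_
      have h5 := Coalgebra.rTensor_counit_comul (R := R) x
      change Ideal.Quotient.mk I ((TensorProduct.lid R A) ((CoalgebraStruct.counit (R := R) (A := A)).rTensor A
        (CoalgebraStruct.comul (R := R) x))) = _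
      rw [h5, TensorProduct.lid_tmul, one_smul]
    rw [h3, Ideal.Quotient.eq_zero_iff_mem.2 hx, TensorProduct.tmul_zero, map_zero]

/-- If `I² = I` then the ideal of the unit point of the quotient is idempotent. -/
theorem ker_εB_sq (hI : I ^ 2 = I) : RingHom.ker (εB R I) ^ 2 = RingHom.ker (εB R I) := by
  have := faithfullyFlat_inv R I
  have h1 := Ideal.comap_map_eq_self_of_faithfullyFlat (B := A) (RingHom.ker (εB R I) ^ 2)
  have h2 := Ideal.comap_map_eq_self_of_faithfullyFlat (B := A) (RingHom.ker (εB R I))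
  have h3 : (RingHom.ker (εB R I) ^ 2).map (algebraMap (B R I) A) =
      (RingHom.ker (εB R I)).map (algebraMap (B R I) A) := by
    rw [Ideal.map_pow, map_ker_εB, hI]
  rw [← h1, h3, h2]

section Unram

omit [Module.Finite R (A ⧸ I)] [Module.Projective R (A ⧸ I)] in
/-- right invariants form a left coideal. -/
theorem lTensor_comul (b : A) (hb : b ∈ B R I) :
    (rhoI R I).toLinearMap.lTensor A (Coalgebra.comul (R := R) b) =
      (Algebra.TensorProduct.includeLeft : A →ₐ[R] A ⊗[R] (A ⧸ I)).toLinearMap.lTensor A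
        (Coalgebra.comul (R := R) b) := by
  let α : (A ⊗[R] A) ⊗[R] (A ⧸ I) →ₐ[R] A ⊗[R] (A ⊗[R] (A ⧸ I)) :=
    (Algebra.TensorProduct.assoc R R R A A (A ⧸ I)).toAlgHom
  have h1 : (Algebra.TensorProduct.map (AlgHom.id R A) (rhoI R I)).comp (Bialgebra.comulAlgHom R A) =
      (α.comp (Algebra.TensorProduct.map (Bialgebra.comulAlgHom R A) (AlgHom.id R (A ⧸ I)))).comp (rhoI R I) := by
    have h2 : Algebra.TensorProduct.map (AlgHom.id R A) (rhoI R I) =
        (Algebra.TensorProduct.map (AlgHom.id R A)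
          (Algebra.TensorProduct.map (AlgHom.id R A) (Ideal.Quotient.mkₐ R I))).comp
        (Algebra.TensorProduct.map (AlgHom.id R A) (Bialgebra.comulAlgHom R A)) := by
      rw [← Algebra.TensorProduct.map_comp, AlgHom.id_comp]
    have h3 : (Algebra.TensorProduct.map (AlgHom.id R A) (Bialgebra.comulAlgHom R A)).comp
        (Bialgebra.comulAlgHom R A) = ((Algebra.TensorProduct.assoc R R R A A A).toAlgHom.comp
        (Algebra.TensorProduct.map (Bialgebra.comulAlgHom R A) (AlgHom.id R A))).comp
          (Bialgebra.comulAlgHom R A) := (isCoact_comul (R := R) (H := A)).coassoc.symm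
    have h4 : (Algebra.TensorProduct.map (AlgHom.id R A)
          (Algebra.TensorProduct.map (AlgHom.id R A) (Ideal.Quotient.mkₐ R I))).comp
          (Algebra.TensorProduct.assoc R R R A A A).toAlgHom =
        α.comp (Algebra.TensorProduct.map (AlgHom.id R (A ⊗[R] A)) (Ideal.Quotient.mkₐ R I)) := by
      ext a
      · simp [α]
      · simp [α]
      · simp [α, Algebra.TensorProduct.one_def]
    have h7 : (Algebra.TensorProduct.map (Bialgebra.comulAlgHom R A) (AlgHom.id R (A ⧸ I))).comp
        (Algebra.TensorProduct.map (AlgHom.id R A) (Ideal.Quotient.mkₐ R I)) =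
        (Algebra.TensorProduct.map (AlgHom.id R (A ⊗[R] A)) (Ideal.Quotient.mkₐ R I)).comp
          (Algebra.TensorProduct.map (Bialgebra.comulAlgHom R A) (AlgHom.id R A)) := by
      rw [← Algebra.TensorProduct.map_comp, ← Algebra.TensorProduct.map_comp]
      rfl
    calc _ = ((Algebra.TensorProduct.map (AlgHom.id R A)
          (Algebra.TensorProduct.map (AlgHom.id R A) (Ideal.Quotient.mkₐ R I))).comp
          (Algebra.TensorProduct.assoc R R R A A A).toAlgHom).comp
          ((Algebra.TensorProduct.map (Bialgebra.comulAlgHom R A) (AlgHom.id R A)).comp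
          (Bialgebra.comulAlgHom R A)) := by
            rw [h2, AlgHom.comp_assoc, h3]
            rfl
      _ = α.comp (((Algebra.TensorProduct.map (AlgHom.id R (A ⊗[R] A)) (Ideal.Quotient.mkₐ R I)).comp
          (Algebra.TensorProduct.map (Bialgebra.comulAlgHom R A) (AlgHom.id R A))).comp
          (Bialgebra.comulAlgHom R A)) := by
            rw [h4]
            rfl
      _ = _ := by
            rw [← h7]
            rfl
  have h5 := AlgHom.congr_fun h1 b
  refine h5.trans ?_
  have h6 : rhoI R I b = b ⊗ₜ 1 := hb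
  rw [AlgHom.comp_apply, AlgHom.comp_apply, h6, Algebra.TensorProduct.map_tmul, AlgHom.id_apply]
  change α ((Coalgebra.comul (R := R) b) ⊗ₜ 1) = _
  generalize (Coalgebra.comul (R := R) b) = z
  induction z using TensorProduct.induction_on with
  | zero => simp
  | add x y hx hy => rw [TensorProduct.add_tmul, map_add, map_add, hx, hy]
  | tmul a c => simp [α]

variable [Module.Flat R A]

omit [Module.Finite R (A ⧸ I)] [Module.Projective R (A ⧸ I)] in
theorem injective_j : Function.Injective (Algebra.TensorProduct.map (AlgHom.id R A) (B R I).val) :=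
  Module.Flat.lTensor_preserves_injective_linearMap (M := A) (B R I).val.toLinearMap Subtype.val_injective

omit [Module.Finite R (A ⧸ I)] [Module.Projective R (A ⧸ I)] in
theorem exists_δ : ∃ δ : B R I →ₐ[R] A ⊗[R] (B R I), (Algebra.TensorProduct.map (AlgHom.id R A) (B R I).val).comp δ =
    (Bialgebra.comulAlgHom R A).comp (B R I).val := by
  let j := Algebra.TensorProduct.map (AlgHom.id R A) (B R I).val
  have hj : Function.Injective j := injective_j R I
  let e := AlgEquiv.ofInjective j hj
  have h1 : ∀ b : B R I, (Bialgebra.comulAlgHom R A).comp (B R I).val b ∈ j.range := by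
    intro b
    obtain ⟨w, hw⟩ := mem_range_of_eq A _ _ _ (lTensor_comul R I b.1 b.2)
    exact ⟨w, hw⟩
  refine ⟨(e.symm : j.range →ₐ[R] A ⊗[R] (B R I)).comp
    (((Bialgebra.comulAlgHom R A).comp (B R I).val).codRestrict j.range h1), ?_⟩
  ext b
  change j (e.symm ⟨_, h1 b⟩) = _
  have h2 : (e (e.symm ⟨_, h1 b⟩) : A ⊗[R] A) = (Bialgebra.comulAlgHom R A).comp (B R I).val b := by
    rw [AlgEquiv.apply_symm_apply]
  exact h2

section Maps

variable {R I}
variable (δ : B R I →ₐ[R] A ⊗[R] (B R I))
  (hδ : (Algebra.TensorProduct.map (AlgHom.id R A) (B R I).val).comp δ =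
    (Bialgebra.comulAlgHom R A).comp (B R I).val)

/-- the shear map `(g, x) ↦ (g, g x)`. -/
noncomputable def Φ : A ⊗[R] (B R I) →ₐ[R] A ⊗[R] (B R I) :=
  Algebra.TensorProduct.lift Algebra.TensorProduct.includeLeft δ (fun _ _ => Commute.all _ _)

/-- the inverse shear map `(g, x) ↦ (g, g⁻¹ x)`. -/
noncomputable def Ψ : A ⊗[R] (B R I) →ₐ[R] A ⊗[R] (B R I) :=
  Algebra.TensorProduct.lift Algebra.TensorProduct.includeLeft
    ((Algebra.TensorProduct.map (HopfAlgebra.antipodeAlgHom R A) (AlgHom.id R (B R I))).comp δ)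
    (fun _ _ => Commute.all _ _)

/-- the orbit map of the unit point -/
noncomputable def μ : A ⊗[R] (B R I) →ₐ[R] A :=
  Algebra.TensorProduct.lift (AlgHom.id R A) (B R I).val (fun _ _ => Commute.all _ _)

/-- evaluation at the unit point -/
noncomputable def Ee : A ⊗[R] (B R I) →ₐ[R] A :=
  Algebra.TensorProduct.lift (AlgHom.id R A) ((Algebra.ofId R A).comp (εB R I)) (fun _ _ => Commute.all _ _)

include hδ in
omit [Module.Finite R (A ⧸ I)] [Module.Projective R (A ⧸ I)] [Module.Flat R A] in
theorem j_comp_Ψι : (Algebra.TensorProduct.map (AlgHom.id R A) (B R I).val).comp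
    ((Ψ δ).comp (Algebra.TensorProduct.includeRight : B R I →ₐ[R] A ⊗[R] (B R I))) =
    ((ptInv (toConv (Algebra.TensorProduct.includeLeft : A →ₐ[R] A ⊗[R] A)) *
      toConv (Algebra.TensorProduct.includeRight : A →ₐ[R] A ⊗[R] A)).ofConv).comp (B R I).val := by
  have h1 : (Ψ δ).comp (Algebra.TensorProduct.includeRight : B R I →ₐ[R] A ⊗[R] (B R I)) =
      (Algebra.TensorProduct.map (HopfAlgebra.antipodeAlgHom R A) (AlgHom.id R (B R I))).comp δ := by
    ext b
    simp [Ψ]
  have h2 : (Algebra.TensorProduct.map (AlgHom.id R A) (B R I).val).comp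
      (Algebra.TensorProduct.map (HopfAlgebra.antipodeAlgHom R A) (AlgHom.id R (B R I))) =
      (Algebra.TensorProduct.map (HopfAlgebra.antipodeAlgHom R A) (AlgHom.id R A)).comp
        (Algebra.TensorProduct.map (AlgHom.id R A) (B R I).val) := by
    rw [← Algebra.TensorProduct.map_comp, ← Algebra.TensorProduct.map_comp]
    rfl
  rw [h1, ← AlgHom.comp_assoc, h2, AlgHom.comp_assoc, hδ, mul_eq_lift, ← AlgHom.comp_assoc]
  congr 2
  apply Algebra.TensorProduct.ext
  · ext a
    simp [ptInv]
  · ext a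
    simp

include hδ in
theorem Ψ_comp_Φ : (Ψ δ).comp (Φ δ) = AlgHom.id R _ := by
  have h0 : (Ψ δ).comp δ = Algebra.TensorProduct.includeRight := by
    refine (AlgHom.cancel_left (f := Algebra.TensorProduct.map (AlgHom.id R A) (B R I).val) (injective_j R I)).1 ?_
    -- `Ψ` on `A ⊗ A`
    let ΨA : A ⊗[R] A →ₐ[R] A ⊗[R] A := Algebra.TensorProduct.lift Algebra.TensorProduct.includeLeft
      (ptInv (toConv (Algebra.TensorProduct.includeLeft : A →ₐ[R] A ⊗[R] A)) *
        toConv (Algebra.TensorProduct.includeRight : A →ₐ[R] A ⊗[R] A)).ofConv (fun _ _ => Commute.all _ _)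
    have h1 : (Algebra.TensorProduct.map (AlgHom.id R A) (B R I).val).comp (Ψ δ) =
        ΨA.comp (Algebra.TensorProduct.map (AlgHom.id R A) (B R I).val) := by
      apply Algebra.TensorProduct.ext
      · ext a
        simp [Ψ, ΨA]
      · have h2 := j_comp_Ψι δ hδ
        ext b
        have h3 := AlgHom.congr_fun h2 b
        refine h3.trans ?_
        simp [ΨA]
        rw [← Algebra.TensorProduct.one_def, one_mul]
    rw [← AlgHom.comp_assoc, h1, AlgHom.comp_assoc, hδ, ← AlgHom.comp_assoc]
    have h4 : ΨA.comp (Bialgebra.comulAlgHom R A) = (Algebra.TensorProduct.includeRight : A →ₐ[R] A ⊗[R] A) := by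
      have h5 := mul_eq_lift (toConv (Algebra.TensorProduct.includeLeft : A →ₐ[R] A ⊗[R] A))
        (ptInv (toConv (Algebra.TensorProduct.includeLeft : A →ₐ[R] A ⊗[R] A)) *
        toConv (Algebra.TensorProduct.includeRight : A →ₐ[R] A ⊗[R] A))
      rw [← mul_assoc, mul_ptInv, one_mul] at h5
      exact h5.symm
    rw [h4]
    ext b
    simp
  apply Algebra.TensorProduct.ext
  · ext a
    simp [Ψ, Φ]
  · ext b
    have := AlgHom.congr_fun h0 b
    simp only [AlgHom.comp_apply] at this
    simp [Φ, this]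
    rw [← Algebra.TensorProduct.one_def, map_one, one_mul]

include hδ in
omit [Module.Finite R (A ⧸ I)] [Module.Projective R (A ⧸ I)] [Module.Flat R A] in
theorem Ee_comp_Φ : (Ee (R := R) (I := I)).comp (Φ δ) = μ := by
  have h0 : (Ee (R := R) (I := I)).comp δ = (B R I).val := by
    let EA : A ⊗[R] A →ₐ[R] A := Algebra.TensorProduct.lift (AlgHom.id R A)
      ((1 : WithConv (A →ₐ[R] A)).ofConv) (fun _ _ => Commute.all _ _)
    have h1 : (Ee (R := R) (I := I)) = EA.comp (Algebra.TensorProduct.map (AlgHom.id R A) (B R I).val) := by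
      apply Algebra.TensorProduct.ext
      · ext a
        simp [Ee, EA]
      · ext b
        simp [Ee, EA]
        rfl
    rw [h1, AlgHom.comp_assoc, hδ, ← AlgHom.comp_assoc]
    have h5 := mul_eq_lift (toConv (AlgHom.id R A)) (1 : WithConv (A →ₐ[R] A))
    rw [mul_one] at h5
    have h6 : EA.comp (Bialgebra.comulAlgHom R A) = AlgHom.id R A := h5.symm
    rw [h6, AlgHom.id_comp]
  apply Algebra.TensorProduct.ext
  · ext a
    simp [Φ, μ, Ee]
  · ext b
    have := AlgHom.congr_fun h0 b
    simp only [AlgHom.comp_apply] at this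
    simp [Φ, μ, this]
    rw [← Algebra.TensorProduct.one_def, map_one, one_mul]

include hδ in
omit [Module.Finite R (A ⧸ I)] [Module.Projective R (A ⧸ I)] [Module.Flat R A] in
theorem μ_comp_Ψι : (μ (R := R) (I := I)).comp
    ((Ψ δ).comp (Algebra.TensorProduct.includeRight : B R I →ₐ[R] A ⊗[R] (B R I))) =
    (Algebra.ofId R A).comp (εB R I) := by
  have h1 : μ (R := R) (I := I) = (Algebra.TensorProduct.lmul' R : A ⊗[R] A →ₐ[R] A).comp
      (Algebra.TensorProduct.map (AlgHom.id R A) (B R I).val) := by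
    apply Algebra.TensorProduct.ext
    · ext a
      simp [μ]
    · ext b
      simp [μ]
  rw [h1, AlgHom.comp_assoc, j_comp_Ψι δ hδ, ← AlgHom.comp_assoc]
  have h2 : (Algebra.TensorProduct.lmul' R : A ⊗[R] A →ₐ[R] A).comp
      ((ptInv (toConv (Algebra.TensorProduct.includeLeft : A →ₐ[R] A ⊗[R] A)) *
      toConv (Algebra.TensorProduct.includeRight : A →ₐ[R] A ⊗[R] A)).ofConv) =
      (1 : WithConv (A →ₐ[R] A)).ofConv := by
    have h3 : post (Algebra.TensorProduct.lmul' R : A ⊗[R] A →ₐ[R] A)
      (ptInv (toConv (Algebra.TensorProduct.includeLeft : A →ₐ[R] A ⊗[R] A)) *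
      toConv (Algebra.TensorProduct.includeRight : A →ₐ[R] A ⊗[R] A)) = 1 := by
      rw [map_mul, post_ptInv]
      have h4 : post (Algebra.TensorProduct.lmul' R : A ⊗[R] A →ₐ[R] A)
        (toConv (Algebra.TensorProduct.includeLeft : A →ₐ[R] A ⊗[R] A)) = toConv (AlgHom.id R A) := by
        apply WithConv.ofConv_injective
        ext a
        simp
      have h5 : post (Algebra.TensorProduct.lmul' R : A ⊗[R] A →ₐ[R] A)
        (toConv (Algebra.TensorProduct.includeRight : A →ₐ[R] A ⊗[R] A)) = toConv (AlgHom.id R A) := by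
        apply WithConv.ofConv_injective
        ext a
        simp
      rw [h4, h5, ptInv_mul]
    exact congrArg WithConv.ofConv h3
  rw [h2]
  rfl

end Maps

theorem formallyUnramified (hI : I ^ 2 = I) : Algebra.FormallyUnramified R (B R I) := by
  obtain ⟨δ, hδ⟩ := exists_δ R I
  have hff := faithfullyFlat_inv R I
  rw [Algebra.FormallyUnramified.iff_comp_injective]
  intro S _ _ N hN f g hfg
  let _ : Algebra (B R I) S := f.toAlgebra
  have : IsScalarTower R (B R I) S := IsScalarTower.of_algebraMap_eq' f.comp_algebraMap.symm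
  let S' := S ⊗[B R I] A
  let i : S →ₐ[R] S' := Algebra.TensorProduct.includeLeft
  let F : A →ₐ[R] S' := (Algebra.TensorProduct.includeRight : A →ₐ[B R I] S ⊗[B R I] A).restrictScalars R
  have hFf : F.comp (B R I).val = i.comp f := by
    ext b
    change (1 : S) ⊗ₜ[B R I] (b : A) = (f b) ⊗ₜ[B R I] (1 : A)
    have h1 : (b : A) = b • (1 : A) := by
      rw [Algebra.smul_def, mul_one]
      rfl
    have h2 : f b = b • (1 : S) := by
      rw [Algebra.smul_def, mul_one]
      rfl
    rw [h2, TensorProduct.smul_tmul, ← h1]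
  have hi : Function.Injective i := FaithfulSMul.algebraMap_injective S (S ⊗[B R I] A)
  let N' : Ideal S' := N.map (i : S →+* S')
  have hN' : N' ^ 2 = ⊥ := by
    rw [← Ideal.map_pow, hN, Ideal.map_bot]
  let κ : S' →ₐ[R] S' ⧸ N' := Ideal.Quotient.mkₐ R N'
  let g' : B R I →ₐ[R] S' := i.comp g
  have hκ : κ.comp g' = κ.comp (F.comp (B R I).val) := by
    rw [hFf]
    ext b
    change Ideal.Quotient.mk N' (i (g b)) = Ideal.Quotient.mk N' (i (f b))
    rw [Ideal.Quotient.eq, ← map_sub]
    apply Ideal.mem_map_of_mem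
    rw [← Ideal.Quotient.eq]
    exact (AlgHom.congr_fun hfg b).symm
  let G : A ⊗[R] (B R I) →ₐ[R] S' := Algebra.TensorProduct.lift F g' (fun _ _ => Commute.all _ _)
  let ι : B R I →ₐ[R] A ⊗[R] (B R I) := Algebra.TensorProduct.includeRight
  let d : B R I →ₐ[R] S' := G.comp ((Ψ δ).comp ι)
  have hG : κ.comp G = (κ.comp F).comp μ := by
    apply Algebra.TensorProduct.ext
    · ext a
      simp [G, μ]
    · ext b
      have := AlgHom.congr_fun hκ b
      simpa [G, μ] using this
  have hd : κ.comp d = (Algebra.ofId R (S' ⧸ N')).comp (εB R I) := by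
    change κ.comp (G.comp ((Ψ δ).comp ι)) = _
    rw [← AlgHom.comp_assoc, hG, AlgHom.comp_assoc, μ_comp_Ψι δ hδ, ← AlgHom.comp_assoc]
    congr 1
    exact Subsingleton.elim _ _
  have hd1 : (RingHom.ker (εB R I)).map (d : B R I →+* S') ≤ N' := by
    rw [Ideal.map_le_iff_le_comap]
    intro b hb
    rw [Ideal.mem_comap, ← Ideal.Quotient.eq_zero_iff_mem]
    refine (AlgHom.congr_fun hd b).trans ?_
    rw [RingHom.mem_ker] at hb
    rw [AlgHom.comp_apply, hb, map_zero]
  have hd2 : (RingHom.ker (εB R I)).map (d : B R I →+* S') = ⊥ := by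
    rw [← ker_εB_sq R I hI, Ideal.map_pow, eq_bot_iff, ← hN']
    exact Ideal.pow_right_mono hd1 2
  have hd3 : d = (Algebra.ofId R S').comp (εB R I) := by
    ext b
    have h1 : b - algebraMap R (B R I) (εB R I b) ∈ RingHom.ker (εB R I) := by
      rw [RingHom.mem_ker, map_sub, AlgHom.commutes]
      exact sub_self _
    have h2 := Ideal.mem_map_of_mem (d : B R I →+* S') h1
    rw [hd2, Ideal.mem_bot] at h2
    have h3 : d (b - algebraMap R (B R I) (εB R I b)) = 0 := h2
    rw [map_sub, AlgHom.commutes, sub_eq_zero] at h3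
    exact h3
  have hGΨ : G.comp (Ψ δ) = F.comp Ee := by
    apply Algebra.TensorProduct.ext
    · ext a
      simp [G, Ψ, Ee]
    · have h1 : (G.comp (Ψ δ)).comp ι = d := rfl
      change (G.comp (Ψ δ)).comp ι = _
      rw [h1, hd3]
      ext b
      simp [Ee]
  have hG2 : G = F.comp μ := by
    have h1 := congrArg (fun f => f.comp (Φ δ)) hGΨ
    simp only [AlgHom.comp_assoc] at h1
    rw [Ψ_comp_Φ δ hδ, Ee_comp_Φ δ hδ, AlgHom.comp_id] at h1
    exact h1
  have hg : g' = F.comp (B R I).val := by
    ext b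
    have h1 := AlgHom.congr_fun hG2 ((1 : A) ⊗ₜ b)
    simpa [G, μ] using h1
  rw [hFf] at hg
  exact ((AlgHom.cancel_left hi).1 hg).symm

end Unram

end K502.EtQuot
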