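import Groth.Agent.Hopf.K502.HopfGrpd
import Groth.Agent.Grpsch.QuotGlobal
import Groth.Agent.Hopf.K502.Pts

/-!
# Quotients by free coactions of finite projective commutative Hopf algebras

For a coaction `ρ : A → A ⊗ H` of a commutative Hopf algebra `H`, finite projective over `R`, such that
`A ⊗ A → A ⊗ H`, `a ⊗ b ↦ (a ⊗ 1) ρ b` is surjective, `A` is finite and faithfully flat over the
subalgebra `B` of invariants and `A ⊗_B A ≃ A ⊗ H`.
-/

set_option autoImplicit false
universe u v
open TensorProduct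

namespace K502.FreeQuot

open K502.RPair K502.HopfGrpd Groth.Agent.Grpsch.AffGrpd

variable {R : Type u} [CommRing R] {A H : Type v} [CommRing A] [CommRing H] [Algebra R A]
  [HopfAlgebra R H] {ρ : A →ₐ[R] A ⊗[R] H}

variable (ρ) in
/-- The subalgebra of invariants. -/
noncomputable abbrev inv : Subalgebra R A := AlgHom.equalizer ρ (Algebra.TensorProduct.includeLeft : A →ₐ[R] A ⊗[R] H)

variable (hρ : IsCoact ρ)

lemma isQuot : (grpd hρ).IsQuot ((inv ρ).val : inv ρ →+* A) where
  cond := by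
    ext b
    exact b.2.symm
  inj := Subtype.val_injective
  ex := fun a ha => ⟨⟨a, ha.symm⟩, rfl⟩

/-- A dual basis for the source map, from one of `H`. -/
lemma exists_db [Module.Finite R H] [Module.Projective R H] : ∃ n, Nonempty (DB (grpd hρ).s n) := by
  obtain ⟨n, f, g, -, -, hfg⟩ := Module.Finite.exists_comp_eq_id_of_projective R H
  classical
  refine ⟨n, ⟨{
    b := fun i => (1 : A) ⊗ₜ f (Pi.single i 1)
    l := fun i => ((TensorProduct.rid R A).toLinearMap ∘ₗ
      (LinearMap.proj i ∘ₗ g : H →ₗ[R] R).lTensor A).toAddMonoidHom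
    l_mul := ?_
    sum_eq := ?_ }⟩⟩
  · intro i a y
    change (TensorProduct.rid R A) ((LinearMap.proj i ∘ₗ g : H →ₗ[R] R).lTensor A ((a ⊗ₜ[R] (1 : H)) * y)) =
      a * (TensorProduct.rid R A) ((LinearMap.proj i ∘ₗ g : H →ₗ[R] R).lTensor A y)
    induction y using TensorProduct.induction_on with
    | zero => simp
    | add x y hx hy => rw [mul_add, map_add, map_add, hx, hy, map_add, map_add, mul_add]
    | tmul b h => simp
  · intro y
    change ∑ i, ((TensorProduct.rid R A) ((LinearMap.proj i ∘ₗ g : H →ₗ[R] R).lTensor A y)) ⊗ₜ[R] (1 : H) *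
      ((1 : A) ⊗ₜ f (Pi.single i 1)) = y
    induction y using TensorProduct.induction_on with
    | zero => simp
    | add x y hx hy =>
      conv_rhs => rw [← hx, ← hy]
      rw [← Finset.sum_add_distrib]
      refine Finset.sum_congr rfl fun i _ => ?_
      rw [map_add, map_add, TensorProduct.add_tmul, add_mul]
    | tmul b h =>
      have h1 : h = ∑ i, (g h i) • f (Pi.single i 1) := by
        have h2 : f (g h) = h := LinearMap.congr_fun hfg h
        conv_lhs => rw [← h2, pi_eq_sum_univ' (g h), map_sum]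
        simp
      conv_rhs => rw [h1, TensorProduct.tmul_sum]
      refine Finset.sum_congr rfl fun i _ => ?_
      simp [TensorProduct.smul_tmul']

/-- the canonical map `A ⊗ A → A ⊗ H`. -/
noncomputable def can (ρ : A →ₐ[R] A ⊗[R] H) : A ⊗[R] A →ₐ[R] A ⊗[R] H :=
  Algebra.TensorProduct.lift Algebra.TensorProduct.includeLeft ρ (fun _ _ => Commute.all _ _)

lemma can_tmul (a b : A) : can ρ (a ⊗ₜ b) = (a ⊗ₜ 1) * ρ b := by
  simp [can]

lemma can_left (a : A) : can ρ (a ⊗ₜ 1) = a ⊗ₜ 1 := by
  rw [can_tmul, map_one, mul_one]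

lemma can_right (a : A) : can ρ (1 ⊗ₜ a) = ρ a := by
  rw [can_tmul, ← Algebra.TensorProduct.one_def, one_mul]

lemma jepi (hs : Function.Surjective (can ρ)) : (grpd hρ).JEpi := by
  intro T _ α β h1 h2
  refine RingHom.ext fun y => ?_
  obtain ⟨z, rfl⟩ := hs y
  have h3 : α.comp (can ρ : A ⊗[R] A →+* A ⊗[R] H) = β.comp (can ρ : A ⊗[R] A →+* A ⊗[R] H) := by
    apply hom_ext
    · intro a
      have h4 : α (a ⊗ₜ 1) = β (a ⊗ₜ 1) := congrArg (fun f => f a) h1
      exact (congrArg α (can_left a)).trans (h4.trans (congrArg β (can_left a)).symm)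
    · intro a
      have h4 : α (ρ a) = β (ρ a) := congrArg (fun f => f a) h2
      exact (congrArg α (can_right a)).trans (h4.trans (congrArg β (can_right a)).symm)
  exact congrArg (fun f => f z) h3

lemma antipode_antipode (h : H) : HopfAlgebra.antipodeAlgHom R H (HopfAlgebra.antipodeAlgHom R H h) = h := by
  have h1 := K502.Pts.eq_ptInv_of_mul_eq_one (K502.Pts.ptInv (WithConv.toConv (AlgHom.id R H)))
    (WithConv.toConv (AlgHom.id R H)) (K502.Pts.mul_ptInv _)
  exact (congrArg (fun f : WithConv (H →ₐ[R] H) => f h) h1).symm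

lemma i_i : (grpd hρ).i.comp (grpd hρ).i = RingHom.id _ := by
  apply hom_ext
  · intro a
    have h1 := congrArg (fun f => f a) (grpd hρ).i_s
    have h2 := congrArg (fun f => f a) (grpd hρ).i_t
    exact (congrArg (grpd hρ).i h1).trans h2
  · intro h
    have h1 : ∀ h : H, (grpd hρ).i ((1 : A) ⊗ₜ h) = (1 : A) ⊗ₜ (HopfAlgebra.antipodeAlgHom R H h) := by
      intro h
      have h2 : (grpd hρ).i ((1 : A) ⊗ₜ h) = ρ 1 * rinv (R := R) (inr R A H) h := rfl
      rw [h2, map_one, one_mul]
      rfl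
    rw [RingHom.comp_apply, h1, h1, antipode_antipode]
    rfl

lemma finite_t [Module.Finite R H] : (grpd hρ).t.Finite := by
  have h1 : (grpd hρ).s.Finite := by
    change (algebraMap A (A ⊗[R] H)).Finite
    rw [RingHom.finite_algebraMap]
    infer_instance
  have h2 : (grpd hρ).t = (grpd hρ).i.comp (grpd hρ).s := (grpd hρ).i_s.symm
  rw [h2]
  refine RingHom.Finite.comp (RingHom.Finite.of_surjective _ fun y => ⟨(grpd hρ).i y, ?_⟩) h1
  exact congrArg (fun f => f y) (i_i hρ)

section Main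

variable [Module.Finite R H] [Module.Projective R H] (hs : Function.Surjective (can ρ))

include hρ hs in
theorem faithfullyFlat : Module.FaithfullyFlat (inv ρ) A := by
  obtain ⟨n, ⟨D⟩⟩ := exists_db hρ
  exact (RingHom.faithfullyFlat_algebraMap_iff).1 ((isQuot hρ).faithfullyFlat (jepi hρ hs) D)

include hρ hs in
theorem finite : Module.Finite (inv ρ) A := by
  obtain ⟨n, ⟨D⟩⟩ := exists_db hρ
  exact RingHom.finite_algebraMap.1 ((isQuot hρ).finite (jepi hρ hs) D (finite_t hρ))

end Main

section CanB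

lemma bijective_aux {C A B : Type v} [CommRing C] [CommRing A] [CommRing B] (γ : C →+* A)
    (s t : A →+* B) (hst : t.comp γ = s.comp γ) (h : Function.Bijective (POut.desc t s hst))
    (i : Algebra C A) (hi : γ.toAlgebra = i) (f : A ⊗[C] A →+* B)
    (h1 : ∀ a, f (a ⊗ₜ 1) = s a) (h2 : ∀ a, f (1 ⊗ₜ a) = t a) : Function.Bijective f := by
  subst hi
  letI := γ.toAlgebra
  have hf : f = (POut.desc t s hst).comp
      (((Algebra.TensorProduct.comm C A A).toRingEquiv : A ⊗[C] A ≃+* A ⊗[C] A) :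
        A ⊗[C] A →+* A ⊗[C] A) := by
    apply hom_ext
    · intro a
      rw [h1]
      exact (POut.desc_inr t s hst a).symm
    · intro a
      rw [h2]
      exact (POut.desc_inl t s hst a).symm
  rw [hf]
  exact h.comp (RingEquiv.bijective _)

/-- `ρ` is linear over the invariants. -/
noncomputable def rhoB (ρ : A →ₐ[R] A ⊗[R] H) : A →ₐ[inv ρ] A ⊗[R] H where
  toRingHom := (ρ : A →+* A ⊗[R] H)
  commutes' := fun b => b.2

/-- the canonical map `A ⊗_B A → A ⊗ H`. -/
noncomputable def canB (ρ : A →ₐ[R] A ⊗[R] H) : A ⊗[inv ρ] A →ₐ[A] A ⊗[R] H :=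
  Algebra.TensorProduct.lift (Algebra.TensorProduct.includeLeft : A →ₐ[A] A ⊗[R] H) (rhoB ρ)
    (fun _ _ => Commute.all _ _)

lemma canB_tmul (a b : A) : canB ρ (a ⊗ₜ b) = (a ⊗ₜ 1) * ρ b := by
  simp [canB]
  rfl

include hρ in
theorem bijective_canB [Module.Finite R H] [Module.Projective R H]
    (hs : Function.Surjective (can ρ)) : Function.Bijective (canB ρ) := by
  obtain ⟨n, ⟨D⟩⟩ := exists_db hρ
  have h := ((isQuot hρ).jequiv (jepi hρ hs) D).bijective
  have := bijective_aux ((inv ρ).val : inv ρ →+* A) (grpd hρ).s (grpd hρ).t (isQuot hρ).cond.symm h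
    (inferInstance : Algebra (inv ρ) A) (Algebra.algebra_ext _ _ fun _ => rfl) (canB ρ : A ⊗[inv ρ] A →+* A ⊗[R] H)
    (fun a => by
      change canB ρ (a ⊗ₜ 1) = a ⊗ₜ 1
      rw [canB_tmul, map_one, mul_one])
    (fun a => by
      change canB ρ (1 ⊗ₜ a) = ρ a
      rw [canB_tmul, ← Algebra.TensorProduct.one_def, one_mul])
  exact this

end CanB

end K502.FreeQuot
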