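import Groth.Agent.Hopf.K502.HopfIdealCrit
import Mathlib.RingTheory.HopfAlgebra.TensorProduct
import Mathlib.RingTheory.Flat.TorsionFree
import Mathlib.RingTheory.Localization.BaseChange
import Mathlib.RingTheory.DedekindDomain.Basic
import Mathlib.RingTheory.Flat.Stability
import Mathlib.RingTheory.Flat.Localization

/-!
# Flat closed subgroup schemes over a Dedekind base and closed subgroups of the generic fibre
-/

set_option autoImplicit false
universe u v w
open TensorProduct

namespace K502.GenFib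

section Ring

variable {R : Type u} [CommRing R] {K : Type w} [CommRing K] [Algebra R K] {A : Type v} [CommRing A] [Algebra R A]

/-- the inclusion of `A` in the generic fibre -/
noncomputable abbrev i (R : Type u) [CommRing R] (K : Type w) [CommRing K] [Algebra R K] (A : Type v) [CommRing A]
    [Algebra R A] : A →ₐ[R] K ⊗[R] A := Algebra.TensorProduct.includeRight

/-- The map `A ⊗_R A → (K ⊗ A) ⊗_K (K ⊗ A)` and its quotients. -/
noncomputable def D {P Q : Type*} [CommRing P] [CommRing Q] [Algebra R P] [Algebra K Q] [Algebra R Q]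
    [IsScalarTower R K Q] (f : P →ₐ[R] Q) :
    P ⊗[R] P →ₐ[R] Q ⊗[K] Q :=
  Algebra.TensorProduct.lift ((Algebra.TensorProduct.includeLeft : Q →ₐ[R] Q ⊗[K] Q).comp f)
    (((Algebra.TensorProduct.includeRight : Q →ₐ[K] Q ⊗[K] Q).restrictScalars R).comp f)
    (fun _ _ => Commute.all _ _)

@[simp] theorem D_tmul {P Q : Type*} [CommRing P] [CommRing Q] [Algebra R P] [Algebra K Q] [Algebra R Q]
    [IsScalarTower R K Q] (f : P →ₐ[R] Q) (a b : P) : D (K := K) f (a ⊗ₜ b) = f a ⊗ₜ f b := by
  simp [D]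

end Ring

section Hopf

variable {R : Type u} [CommRing R] {K : Type w} [CommRing K] [Algebra R K] {A : Type v} [CommRing A]
  [HopfAlgebra R A]

theorem comul_i (a : A) : Bialgebra.comulAlgHom K (K ⊗[R] A) (i R K A a) =
    D (K := K) (i R K A) (Bialgebra.comulAlgHom R A a) := by
  change Coalgebra.comul (R := K) ((1 : K) ⊗ₜ[R] a) = D (K := K) (i R K A) (Coalgebra.comul (R := R) a)
  rw [TensorProduct.comul_tmul]
  generalize Coalgebra.comul (R := R) a = w
  induction w using TensorProduct.induction_on with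
  | zero => simp
  | add x y hx hy => simp only [TensorProduct.tmul_add, map_add, hx, hy]
  | tmul x y => simp

theorem counit_i (a : A) : Bialgebra.counitAlgHom K (K ⊗[R] A) (i R K A a) =
    algebraMap R K (Bialgebra.counitAlgHom R A a) := by
  change Coalgebra.counit (R := K) ((1 : K) ⊗ₜ[R] a) = _
  rw [TensorProduct.counit_tmul]
  simp [Algebra.algebraMap_eq_smul_one]

theorem antipode_i (a : A) : HopfAlgebra.antipodeAlgHom K (K ⊗[R] A) (i R K A a) =
    i R K A (HopfAlgebra.antipodeAlgHom R A a) := by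
  change HopfAlgebra.antipode K ((1 : K) ⊗ₜ[R] a) = _
  rw [TensorProduct.antipode_def]
  simp
  
/-- compatibility of comultiplications modulo ideals. -/
theorem mk_comul_i (J' : Ideal A) (J : Ideal (K ⊗[R] A)) (f : (A ⧸ J') →ₐ[R] (K ⊗[R] A) ⧸ J)
    (hf : ∀ a, f (Ideal.Quotient.mk J' a) = Ideal.Quotient.mk J (i R K A a)) (a : A) :
    (Algebra.TensorProduct.map (Ideal.Quotient.mkₐ K J) (Ideal.Quotient.mkₐ K J))
      (Bialgebra.comulAlgHom K (K ⊗[R] A) (i R K A a)) =
    D (K := K) f ((Algebra.TensorProduct.map (Ideal.Quotient.mkₐ R J') (Ideal.Quotient.mkₐ R J'))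
      (Bialgebra.comulAlgHom R A a)) := by
  rw [comul_i]
  generalize Bialgebra.comulAlgHom R A a = w
  induction w using TensorProduct.induction_on with
  | zero => simp
  | add x y hx hy => simp only [map_add, hx, hy]
  | tmul x y =>
    rw [D_tmul, Algebra.TensorProduct.map_tmul, Algebra.TensorProduct.map_tmul, D_tmul]
    change Ideal.Quotient.mk J (i R K A x) ⊗ₜ[K] Ideal.Quotient.mk J (i R K A y) =
      f (Ideal.Quotient.mk J' x) ⊗ₜ[K] f (Ideal.Quotient.mk J' y)
    rw [hf, hf]

/-- The base change of a Hopf ideal. -/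
theorem isHopfIdeal_map (J' : Ideal A) [J'.IsHopfIdeal R] : (J'.map (i R K A)).IsHopfIdeal K := by
  set J := J'.map (i R K A) with hJ
  let f : (A ⧸ J') →ₐ[R] (K ⊗[R] A) ⧸ J := Ideal.quotientMapₐ J (i R K A) Ideal.le_comap_map
  have hf : ∀ a, f (Ideal.Quotient.mk J' a) = Ideal.Quotient.mk J (i R K A a) := fun _ => rfl
  have h1 : J ≤ RingHom.ker (Bialgebra.counitAlgHom K (K ⊗[R] A)) := by
    rw [hJ, Ideal.map_le_iff_le_comap]
    intro a ha
    rw [Ideal.mem_comap, RingHom.mem_ker]
    refine (counit_i a).trans ?_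
    rw [K502.HopfIdealCrit.counit_of_hopfIdeal R J' a ha, map_zero]
  have h2 : J ≤ RingHom.ker ((Algebra.TensorProduct.map (Ideal.Quotient.mkₐ K J) (Ideal.Quotient.mkₐ K J)).comp
      (Bialgebra.comulAlgHom K (K ⊗[R] A))) := by
    conv_lhs => rw [hJ]
    rw [Ideal.map_le_iff_le_comap]
    intro a ha
    rw [Ideal.mem_comap, RingHom.mem_ker]
    refine (mk_comul_i J' J f hf a).trans ?_
    rw [K502.HopfIdealCrit.comul_of_hopfIdeal R J' a ha, map_zero]
  have h3 : J ≤ J.comap (HopfAlgebra.antipodeAlgHom K (K ⊗[R] A)) := by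
    conv_lhs => rw [hJ]
    rw [Ideal.map_le_iff_le_comap]
    intro a ha
    rw [Ideal.mem_comap, Ideal.mem_comap]
    have h4 := antipode_i (R := R) (K := K) a
    have h5 : i R K A (HopfAlgebra.antipodeAlgHom R A a) ∈ J :=
      Ideal.mem_map_of_mem (i R K A) (K502.HopfIdealCrit.antipode_of_hopfIdeal R J' a ha)
    rw [← h4] at h5
    exact h5
  exact K502.HopfIdealCrit.isHopfIdeal_of K J (fun x hx => h1 hx) (fun x hx => h2 hx) (fun x hx => h3 hx)

end Hopf

section Field

variable {R : Type u} [CommRing R] [IsDomain R] {K : Type w} [Field K] [Algebra R K] [IsFractionRing R K]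
  {A : Type v} [CommRing A]

theorem exists_smul [Algebra R A] (z : K ⊗[R] A) : ∃ r : R, r ≠ 0 ∧ ∃ a, r • z = i R K A a := by
  induction z using TensorProduct.induction_on with
  | zero => exact ⟨1, one_ne_zero, 0, by simp⟩
  | tmul k a =>
    obtain ⟨⟨s, r⟩, h⟩ := IsLocalization.surj (nonZeroDivisors R) k
    refine ⟨r, nonZeroDivisors.ne_zero r.2, s • a, ?_⟩
    rw [TensorProduct.smul_tmul', Algebra.smul_def, mul_comm, h, Algebra.algebraMap_eq_smul_one,
      TensorProduct.smul_tmul]
    rfl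
  | add x y hx hy =>
    obtain ⟨r, hr, a, ha⟩ := hx
    obtain ⟨s, hs, b, hb⟩ := hy
    refine ⟨r * s, mul_ne_zero hr hs, s • a + r • b, ?_⟩
    rw [map_add, map_smul, map_smul, ← ha, ← hb, smul_add, smul_smul, smul_smul, mul_comm s r]

omit [IsDomain R] in
theorem smul_mem_iff [IsDomain R] [Algebra R A] (J : Ideal (K ⊗[R] A)) (r : R) (hr : r ≠ 0) (z : K ⊗[R] A) :
    r • z ∈ J ↔ z ∈ J := by
  constructor
  · intro h
    have hr' : algebraMap R K r ≠ 0 := by
      rw [Ne, IsFractionRing.to_map_eq_zero_iff]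
      exact hr
    have h1 : z = ((algebraMap R K r)⁻¹ ⊗ₜ[R] (1 : A)) * (r • z) := by
      have h2 : ((algebraMap R K r)⁻¹ ⊗ₜ[R] (1 : A)) * ((algebraMap R K r) ⊗ₜ[R] (1 : A)) = 1 := by
        rw [Algebra.TensorProduct.tmul_mul_tmul, inv_mul_cancel₀ hr', mul_one]
        rfl
      have h3 : r • z = ((algebraMap R K r) ⊗ₜ[R] (1 : A)) * z := by
        rw [Algebra.smul_def]
        rfl
      rw [h3, ← mul_assoc, h2, one_mul]
    rw [h1]
    exact J.mul_mem_left _ h
  · intro h
    rw [Algebra.smul_def]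
    exact J.mul_mem_left _ h

theorem map_comap [Algebra R A] (J : Ideal (K ⊗[R] A)) : (J.comap (i R K A)).map (i R K A) = J := by
  apply le_antisymm Ideal.map_comap_le
  intro z hz
  obtain ⟨r, hr, a, ha⟩ := exists_smul z
  rw [← smul_mem_iff _ r hr, ha]
  apply Ideal.mem_map_of_mem
  rw [Ideal.mem_comap, ← ha]
  exact (smul_mem_iff J r hr z).2 hz

theorem comap_map [Algebra R A] (J' : Ideal A) [Module.Flat R (A ⧸ J')] : (J'.map (i R K A)).comap (i R K A) = J' := by
  apply le_antisymm _ Ideal.le_comap_map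
  intro x hx
  let q : K ⊗[R] A →ₐ[R] K ⊗[R] (A ⧸ J') := Algebra.TensorProduct.map (AlgHom.id R K) (Ideal.Quotient.mkₐ R J')
  have h1 : J'.map (i R K A) ≤ RingHom.ker q := by
    rw [Ideal.map_le_iff_le_comap]
    intro a ha
    rw [Ideal.mem_comap, RingHom.mem_ker]
    simp only [q, Algebra.TensorProduct.includeRight_apply, Algebra.TensorProduct.map_tmul]
    have : Ideal.Quotient.mkₐ R J' a = 0 := Ideal.Quotient.eq_zero_iff_mem.2 ha
    rw [this, TensorProduct.tmul_zero]
  have h2 : q (i R K A x) = 0 := h1 hx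
  have h3 : Function.Injective (Algebra.TensorProduct.includeRight : (A ⧸ J') →ₐ[R] K ⊗[R] (A ⧸ J')) :=
    Algebra.TensorProduct.includeRight_injective (IsFractionRing.injective R K)
  have h4 : (Algebra.TensorProduct.includeRight : (A ⧸ J') →ₐ[R] K ⊗[R] (A ⧸ J')) (Ideal.Quotient.mk J' x) =
      (Algebra.TensorProduct.includeRight : (A ⧸ J') →ₐ[R] K ⊗[R] (A ⧸ J')) 0 := by
    rw [map_zero, ← h2]
    simp [q]
  exact Ideal.Quotient.eq_zero_iff_mem.1 (h3 h4)

theorem injective_D {P Q : Type*} [CommRing P] [CommRing Q] [Algebra R P] [Algebra K Q] [Algebra R Q]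
    [IsScalarTower R K Q] (f : P →ₐ[R] Q) (hf : Function.Injective f) [Module.Flat R P] :
    Function.Injective (D (K := K) f) := by
  have hK : Module.Flat R K := IsLocalization.flat K (nonZeroDivisors R)
  have hQ : Module.Flat R Q := Module.Flat.trans R K Q
  have := IsLocalization.tensorProduct_compatibleSMul (nonZeroDivisors R) K Q Q
  let e : Q ⊗[K] Q ≃ₗ[R] Q ⊗[R] Q := (TensorProduct.equivOfCompatibleSMul R K R Q Q)
  have h1 : ∀ z, e (D (K := K) f z) = TensorProduct.map f.toLinearMap f.toLinearMap z := by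
    intro z
    induction z using TensorProduct.induction_on with
    | zero => simp
    | add x y hx hy => simp only [map_add, hx, hy]
    | tmul x y =>
      rw [D_tmul, TensorProduct.map_tmul]
      rfl
  have h2 : Function.Injective (TensorProduct.map f.toLinearMap f.toLinearMap) := by
    have h3 : TensorProduct.map f.toLinearMap f.toLinearMap =
        (f.toLinearMap.lTensor Q) ∘ₗ (f.toLinearMap.rTensor P) := by
      rw [LinearMap.lTensor_comp_rTensor]
    rw [h3, LinearMap.coe_comp]
    exact (Module.Flat.lTensor_preserves_injective_linearMap _ hf).comp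
      (Module.Flat.rTensor_preserves_injective_linearMap _ hf)
  intro x y hxy
  apply h2
  rw [← h1, ← h1, hxy]

end Field

section Main

variable {R : Type u} [CommRing R] [IsDedekindDomain R] {K : Type w} [Field K] [Algebra R K] [IsFractionRing R K]
  {A : Type v} [CommRing A]

theorem flat_quot_comap [Algebra R A] (J : Ideal (K ⊗[R] A)) : Module.Flat R (A ⧸ J.comap (i R K A)) := by
  have h : Module.IsTorsionFree R (A ⧸ J.comap (i R K A)) := by
    rw [Module.isTorsionFree_iff_smul_eq_zero]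
    intro r x hx
    by_cases hr : r = 0
    · exact Or.inl hr
    right
    obtain ⟨a, rfl⟩ := Ideal.Quotient.mk_surjective x
    have h1 : r • a ∈ J.comap (i R K A) := by
      rw [← Ideal.Quotient.eq_zero_iff_mem]
      exact hx
    rw [Ideal.mem_comap, map_smul, smul_mem_iff J r hr] at h1
    exact Ideal.Quotient.eq_zero_iff_mem.2 h1
  infer_instance

variable [HopfAlgebra R A]

theorem isHopfIdeal_comap (J : Ideal (K ⊗[R] A)) [J.IsHopfIdeal K] : (J.comap (i R K A)).IsHopfIdeal R := by
  set J' := J.comap (i R K A) with hJ'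
  have hflat : Module.Flat R (A ⧸ J') := flat_quot_comap J
  let f : (A ⧸ J') →ₐ[R] (K ⊗[R] A) ⧸ J := Ideal.quotientMapₐ J (i R K A) le_rfl
  have hf : ∀ a, f (Ideal.Quotient.mk J' a) = Ideal.Quotient.mk J (i R K A a) := fun _ => rfl
  have hfi : Function.Injective f := Ideal.quotientMap_injective
  refine K502.HopfIdealCrit.isHopfIdeal_of R J' ?_ ?_ ?_
  · intro x hx
    have h1 := K502.HopfIdealCrit.counit_of_hopfIdeal K J _ (Ideal.mem_comap.1 hx)
    apply IsFractionRing.injective R K
    rw [map_zero, ← h1]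
    exact (counit_i x).symm
  · intro x hx
    have h1 := K502.HopfIdealCrit.comul_of_hopfIdeal K J _ (Ideal.mem_comap.1 hx)
    apply injective_D (K := K) f hfi
    rw [map_zero, ← h1]
    exact (mk_comul_i J' J f hf x).symm
  · intro x hx
    have h1 := K502.HopfIdealCrit.antipode_of_hopfIdeal K J _ (Ideal.mem_comap.1 hx)
    rw [hJ', Ideal.mem_comap]
    have h2 := antipode_i (R := R) (K := K) x
    rw [← h2]
    exact h1

variable (R K A) in
theorem bijOn : Set.BijOn (fun J' : Ideal A => Ideal.map (i R K A) J')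
      {J' : Ideal A | J'.IsHopfIdeal R ∧ Module.Flat R (A ⧸ J')}
      {J : Ideal (K ⊗[R] A) | J.IsHopfIdeal K} := by
  refine ⟨?_, ?_, ?_⟩
  · rintro J' ⟨h1, h2⟩
    exact isHopfIdeal_map J'
  · rintro J' ⟨-, h1⟩ J'' ⟨-, h2⟩ h
    rw [← comap_map (R := R) (K := K) J', ← comap_map (R := R) (K := K) J'']
    exact congrArg (fun J => Ideal.comap (i R K A) J) h
  · intro J hJ
    have : J.IsHopfIdeal K := hJ
    exact ⟨J.comap (i R K A), ⟨isHopfIdeal_comap J, flat_quot_comap J⟩, map_comap J⟩

end Main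

end K502.GenFib
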