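import Groth.Agent.Hopf.K502.RPair
import Groth.Agent.Grpsch.AffGrpd

/-!
# The ring-level groupoid of a coaction of a commutative Hopf algebra
-/

set_option autoImplicit false
universe u v
open TensorProduct

namespace K502.HopfGrpd

open K502.RPair Groth.Agent.Grpsch.AffGrpd

variable {R : Type u} [CommRing R] {A H : Type v} [CommRing A] [CommRing H] [Algebra R A]
  [HopfAlgebra R H] {ρ : A →ₐ[R] A ⊗[R] H}

section aux
variable {T T' : Type*} [CommRing T] [CommRing T']

/-- inverse of a ring-level point. -/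
noncomputable def rinv (g : H →+* T) : H →+* T :=
  g.comp (HopfAlgebra.antipodeAlgHom R H : H →+* H)

lemma rinv_comp_algebraMap (g : H →+* T) :
    (rinv (R := R) g).comp (algebraMap R H) = g.comp (algebraMap R H) := by
  rw [rinv, RingHom.comp_assoc, comp_algebraMap_alg]

lemma rmul_rinv (g : H →+* T) (h : g.comp (algebraMap R H) = (rinv (R := R) g).comp (algebraMap R H)) :
    rmul g (rinv (R := R) g) h = rone R T (g.comp (algebraMap R H)) := by
  have h1 : pair g (rinv (R := R) g) h = g.comp
      ((Algebra.TensorProduct.lmul' R).comp (Algebra.TensorProduct.map (AlgHom.id R H)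
        (HopfAlgebra.antipodeAlgHom R H)) : H ⊗[R] H →ₐ[R] H).toRingHom := by
    apply hom_ext
    · intro a
      simp
    · intro b
      simp [rinv]
  rw [rmul, h1]
  ext a
  have h2 := HopfAlgebra.mul_antipode_lTensor_comul_apply (R := R) a
  have h3 : ((Algebra.TensorProduct.lmul' R).comp (Algebra.TensorProduct.map (AlgHom.id R H)
        (HopfAlgebra.antipodeAlgHom R H)) : H ⊗[R] H →ₐ[R] H) (CoalgebraStruct.comul (R := R) a) =
      algebraMap R H (CoalgebraStruct.counit a) := h2
  exact congrArg g h3

lemma rinv_rmul (g : H →+* T) (h : (rinv (R := R) g).comp (algebraMap R H) = g.comp (algebraMap R H)) :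
    rmul (rinv (R := R) g) g h = rone R T (g.comp (algebraMap R H)) := by
  have h1 : pair (rinv (R := R) g) g h = g.comp
      ((Algebra.TensorProduct.lmul' R).comp (Algebra.TensorProduct.map 
        (HopfAlgebra.antipodeAlgHom R H) (AlgHom.id R H)) : H ⊗[R] H →ₐ[R] H).toRingHom := by
    apply hom_ext
    · intro a
      simp [rinv]
    · intro b
      simp
  rw [rmul, h1]
  ext a
  have h2 := HopfAlgebra.mul_antipode_rTensor_comul_apply (R := R) a
  have h3 : ((Algebra.TensorProduct.lmul' R).comp (Algebra.TensorProduct.map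
        (HopfAlgebra.antipodeAlgHom R H) (AlgHom.id R H)) : H ⊗[R] H →ₐ[R] H) (CoalgebraStruct.comul (R := R) a) =
      algebraMap R H (CoalgebraStruct.counit a) := h2
  exact congrArg g h3

lemma rone_rmul (g : H →+* T) (c : R →+* T)
    (h : (rone R T c : H →+* T).comp (algebraMap R H) = g.comp (algebraMap R H)) :
    rmul (rone R T c) g h = g := by
  have h0 : c = g.comp (algebraMap R H) := (rone_comp_algebraMap c).symm.trans h
  subst h0
  have h1 : pair (rone R T (g.comp (algebraMap R H))) g h = g.comp
      ((Algebra.TensorProduct.lid R H).toAlgHom.comp (Algebra.TensorProduct.map 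
        (Bialgebra.counitAlgHom R H) (AlgHom.id R H)) : H ⊗[R] H →ₐ[R] H).toRingHom := by
    apply hom_ext
    · intro a
      simp [rone, Algebra.algebraMap_eq_smul_one]
    · intro b
      simp
  rw [rmul, h1]
  ext a
  have h2 := Coalgebra.rTensor_counit_comul (R := R) a
  have h3 : ((Algebra.TensorProduct.lid R H).toAlgHom.comp (Algebra.TensorProduct.map 
        (Bialgebra.counitAlgHom R H) (AlgHom.id R H)) : H ⊗[R] H →ₐ[R] H) (CoalgebraStruct.comul (R := R) a) =
      a := by
    change (TensorProduct.lid R H) ((CoalgebraStruct.counit (R := R) (A := H)).rTensor H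
      (CoalgebraStruct.comul (R := R) a)) = a
    rw [h2, TensorProduct.lid_tmul, one_smul]
  exact congrArg g h3

lemma rmul_rone (g : H →+* T) (c : R →+* T)
    (h : g.comp (algebraMap R H) = (rone R T c : H →+* T).comp (algebraMap R H)) :
    rmul g (rone R T c) h = g :=
  isCoact_comul.ract_one g c h

lemma rmul_assoc (g g' g'' : H →+* T) (h : g.comp (algebraMap R H) = g'.comp (algebraMap R H))
    (h' : (rmul g g' h).comp (algebraMap R H) = g''.comp (algebraMap R H))
    (h₂ : g'.comp (algebraMap R H) = g''.comp (algebraMap R H))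
    (h₃ : g.comp (algebraMap R H) = (rmul g' g'' h₂).comp (algebraMap R H)) :
    rmul (rmul g g' h) g'' h' = rmul g (rmul g' g'' h₂) h₃ :=
  isCoact_comul.ract_ract g g' g'' h h' h₂ h₃

lemma pair_congr {X Y : Type*} [CommRing X] [CommRing Y] [Algebra R X] [Algebra R Y]
    {x x' : X →+* T} {y y' : Y →+* T} (hx : x = x') (hy : y = y')
    (h : x.comp (algebraMap R X) = y.comp (algebraMap R Y))
    (h' : x'.comp (algebraMap R X) = y'.comp (algebraMap R Y)) : pair x y h = pair x' y' h' := by
  subst hx hy
  rfl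

lemma rmul_congr {g₁ g₁' g₂ g₂' : H →+* T} (h₁ : g₁ = g₁') (h₂ : g₂ = g₂')
    (h : g₁.comp (algebraMap R H) = g₂.comp (algebraMap R H))
    (h' : g₁'.comp (algebraMap R H) = g₂'.comp (algebraMap R H)) : rmul g₁ g₂ h = rmul g₁' g₂' h' := by
  subst h₁ h₂
  rfl

lemma ract_congr {x x' : A →+* T} {g g' : H →+* T} (h₁ : x = x') (h₂ : g = g')
    (h : x.comp (algebraMap R A) = g.comp (algebraMap R H))
    (h' : x'.comp (algebraMap R A) = g'.comp (algebraMap R H)) : ract ρ x g h = ract ρ x' g' h' := by
  subst h₁ h₂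
  rfl

end aux

variable (ρ) in
/-- The source-target compatibility. -/
lemma compat_of_eq {T : Type*} [CommRing T] (α β : A ⊗[R] H →+* T)
    (h : α.comp (inl R A H) = β.comp (ρ : A →+* A ⊗[R] H)) :
    (β.comp (inr R A H)).comp (algebraMap R H) = (α.comp (inr R A H)).comp (algebraMap R H) := by
  rw [← compat, ← compat, h, RingHom.comp_assoc, RingHom.comp_assoc, inl_comp_algebraMap,
    comp_algebraMap_alg]

lemma comp_rho_eq {T : Type*} [CommRing T] (α : A ⊗[R] H →+* T) :
    α.comp (ρ : A →+* A ⊗[R] H) = ract ρ (α.comp (inl R A H)) (α.comp (inr R A H)) (compat α) := by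
  rw [ract, pair_eta]

variable (hρ : IsCoact ρ)

/-- The groupoid of a coaction. -/
noncomputable def grpd : RGrpd A (A ⊗[R] H) where
  s := inl R A H
  t := ρ
  e := pair (RingHom.id A) (rone R A (algebraMap R A)) (by rw [rone_comp_algebraMap, RingHom.id_comp])
  i := pair (ρ : A →+* A ⊗[R] H) (rinv (R := R) (inr R A H))
    (by rw [rinv_comp_algebraMap, comp_algebraMap_alg, inr_comp_algebraMap])
  comp := fun {T} _ α β h => pair (β.comp (inl R A H))
    (rmul (β.comp (inr R A H)) (α.comp (inr R A H)) (compat_of_eq ρ α β h))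
    (by rw [rmul_comp_algebraMap, compat])
  comp_s := by
    intro T _ α β h
    rw [pair_comp_inl]
  comp_t := by
    intro T _ α β h
    rw [comp_rho_eq (ρ := ρ) (pair _ _ _), comp_rho_eq (ρ := ρ) α]
    simp only [pair_comp_inl, pair_comp_inr]
    have h2 : α.comp (inl R A H) = ract ρ (β.comp (inl R A H)) (β.comp (inr R A H)) (compat β) := by
      rw [← comp_rho_eq]
      exact h
    rw [← hρ.ract_ract (β.comp (inl R A H)) (β.comp (inr R A H)) (α.comp (inr R A H)) (compat β)
      (by rw [← h2, compat]) (compat_of_eq ρ α β h)]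
    congr 1
    exact h2.symm
  comp_nat := by
    intro T T' _ _ f α β h
    rw [comp_pair]
    simp only [comp_rmul, RingHom.comp_assoc]
  assoc := by
    intro T _ α β γ h₁ h₂
    apply pair_congr
    · rw [pair_comp_inl]
    · have h3 := rmul_assoc (γ.comp (inr R A H)) (β.comp (inr R A H)) (α.comp (inr R A H))
        (compat_of_eq ρ β γ h₂) (by rw [rmul_comp_algebraMap, compat_of_eq ρ β γ h₂, compat_of_eq ρ α β h₁])
        (compat_of_eq ρ α β h₁) (by rw [rmul_comp_algebraMap, compat_of_eq ρ β γ h₂])
      refine Eq.trans (rmul_congr rfl (pair_comp_inr _ _ _) _ _) (h3.symm.trans ?_)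
      exact rmul_congr (pair_comp_inr _ _ _).symm rfl _ _
  e_s := by rw [pair_comp_inl]
  e_t := by
    rw [comp_rho_eq (ρ := ρ)]
    simp only [pair_comp_inl, pair_comp_inr]
    exact hρ.ract_one _ _ _
  comp_e := by
    intro T _ α
    refine Eq.trans (pair_congr (x' := α.comp (inl R A H)) (y' := α.comp (inr R A H)) ?_ ?_ _ (compat α))
      (pair_eta α)
    · rw [RingHom.comp_assoc, pair_comp_inl, RingHom.comp_id]
    · refine Eq.trans (rmul_congr (g₁' := rone R T ((α.comp (inr R A H)).comp (algebraMap R H)))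
        ?_ rfl _ (by rw [rone_comp_algebraMap])) (rone_rmul _ _ _)
      rw [RingHom.comp_assoc, pair_comp_inr, comp_rone, compat]
  e_comp := by
    intro T _ α
    refine Eq.trans (pair_congr (x' := α.comp (inl R A H)) (y' := α.comp (inr R A H)) rfl ?_ _ (compat α))
      (pair_eta α)
    refine Eq.trans (rmul_congr (g₂' := rone R T ((α.comp (inr R A H)).comp (algebraMap R H)))
        rfl ?_ _ (by rw [rone_comp_algebraMap])) (rmul_rone _ _ _)
    rw [RingHom.comp_assoc, pair_comp_inr, comp_rone]
    congr 1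
    rw [RingHom.comp_assoc, comp_algebraMap_alg, RingHom.comp_assoc, inr_comp_algebraMap]
  i_s := by rw [pair_comp_inl]
  i_t := by
    rw [comp_rho_eq (ρ := ρ)]
    have h1 : (ρ : A →+* A ⊗[R] H) = ract ρ (inl R A H) (inr R A H)
        (by rw [inl_comp_algebraMap, inr_comp_algebraMap]) := by
      have h2 := comp_rho_eq (ρ := ρ) (RingHom.id (A ⊗[R] H))
      exact h2
    have h3 := hρ.ract_ract (inl R A H) (inr R A H) (rinv (R := R) (inr R A H))
      (by rw [inl_comp_algebraMap, inr_comp_algebraMap])
      (by rw [← h1, rinv_comp_algebraMap, comp_algebraMap_alg, inr_comp_algebraMap])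
      (by rw [rinv_comp_algebraMap])
      (by rw [rmul_comp_algebraMap, inl_comp_algebraMap, inr_comp_algebraMap])
    refine Eq.trans (ract_congr ((pair_comp_inl _ _ _).trans h1) (pair_comp_inr _ _ _) _ _) (h3.trans ?_)
    refine Eq.trans (ract_congr rfl (rmul_rinv _ _) _ ?_) (hρ.ract_one _ _ _)
    rw [rone_comp_algebraMap, inl_comp_algebraMap, inr_comp_algebraMap]
  comp_i := by
    intro T _ α
    have hc : ((α.comp (ρ : A →+* A ⊗[R] H)).comp (RingHom.id A)).comp (algebraMap R A) =
        ((α.comp (ρ : A →+* A ⊗[R] H)).comp (rone R A (algebraMap R A) : H →+* A)).comp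
          (algebraMap R H) := by
      rw [comp_rone, rone_comp_algebraMap, RingHom.comp_id]
    refine Eq.trans (pair_congr ?_ ?_ _ hc) (comp_pair _ _ _ _).symm
    · rw [RingHom.comp_assoc, pair_comp_inl, RingHom.comp_id]
    · refine Eq.trans (rmul_congr (g₁' := rinv (R := R) (α.comp (inr R A H))) ?_ rfl _ ?_)
        ((rinv_rmul _ ?_).trans ?_)
      · rw [RingHom.comp_assoc, pair_comp_inr]
        rfl
      · rw [rinv_comp_algebraMap]
      · rw [rinv_comp_algebraMap]
      · rw [comp_rone]
        congr 1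
        rw [RingHom.comp_assoc, RingHom.comp_assoc, comp_algebraMap_alg, inr_comp_algebraMap]
  i_comp := by
    intro T _ α
    have hc : ((α.comp (inl R A H)).comp (RingHom.id A)).comp (algebraMap R A) =
        ((α.comp (inl R A H)).comp (rone R A (algebraMap R A) : H →+* A)).comp
          (algebraMap R H) := by
      rw [comp_rone, rone_comp_algebraMap, RingHom.comp_id]
    refine Eq.trans (pair_congr ?_ ?_ _ hc) (comp_pair _ _ _ _).symm
    · rw [RingHom.comp_id]
    · refine Eq.trans (rmul_congr (g₂' := rinv (R := R) (α.comp (inr R A H))) rfl ?_ _ ?_)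
        ((rmul_rinv _ ?_).trans ?_)
      · rw [RingHom.comp_assoc, pair_comp_inr]
        rfl
      · rw [rinv_comp_algebraMap]
      · rw [rinv_comp_algebraMap]
      · rw [comp_rone, compat]

end K502.HopfGrpd
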