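import Groth.Agent.Hopf.K502.FreeQuot
import Mathlib.RingTheory.HopfAlgebra.Quotient

/-!
# The quotient of a finite locally free group scheme by a finite locally free closed subgroup
-/

set_option autoImplicit false
universe u v
open TensorProduct WithConv

namespace K502.HopfQuot

open K502.RPair K502.HopfGrpd K502.FreeQuot K502.Pts

variable {R : Type u} [CommRing R] {A H : Type v} [CommRing A] [CommRing H] [HopfAlgebra R A]
  [HopfAlgebra R H]

/-- The coaction of `H` on `A` through a bialgebra map (right translations). -/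
noncomputable def rhoπ (π : A →ₐc[R] H) : A →ₐ[R] A ⊗[R] H :=
  (Algebra.TensorProduct.map (AlgHom.id R A) (π : A →ₐ[R] H)).comp (Bialgebra.comulAlgHom R A)

lemma isCoact_rhoπ (π : A →ₐc[R] H) : IsCoact (rhoπ π) where
  coassoc := by
    have h1 : (Algebra.TensorProduct.map (rhoπ π) (AlgHom.id R H)).comp (rhoπ π) =
        (Algebra.TensorProduct.map (Algebra.TensorProduct.map (AlgHom.id R A) (π : A →ₐ[R] H))
          (π : A →ₐ[R] H)).comp
        ((Algebra.TensorProduct.map (Bialgebra.comulAlgHom R A) (AlgHom.id R A)).comp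
          (Bialgebra.comulAlgHom R A)) := by
      rw [rhoπ, ← AlgHom.comp_assoc, ← AlgHom.comp_assoc]
      congr 1
      rw [← Algebra.TensorProduct.map_comp, ← Algebra.TensorProduct.map_comp]
      rfl
    have h2 : (Algebra.TensorProduct.assoc R R R A H H).toAlgHom.comp
        (Algebra.TensorProduct.map (Algebra.TensorProduct.map (AlgHom.id R A) (π : A →ₐ[R] H))
          (π : A →ₐ[R] H)) =
        (Algebra.TensorProduct.map (AlgHom.id R A)
          (Algebra.TensorProduct.map (π : A →ₐ[R] H) (π : A →ₐ[R] H))).comp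
          (Algebra.TensorProduct.assoc R R R A A A).toAlgHom := by
      ext a
      · simp
      · simp
      · simp [Algebra.TensorProduct.one_def]
    have h3 : (Algebra.TensorProduct.assoc R R R A A A).toAlgHom.comp
        ((Algebra.TensorProduct.map (Bialgebra.comulAlgHom R A) (AlgHom.id R A)).comp
          (Bialgebra.comulAlgHom R A)) =
        (Algebra.TensorProduct.map (AlgHom.id R A) (Bialgebra.comulAlgHom R A)).comp
          (Bialgebra.comulAlgHom R A) := (isCoact_comul (R := R) (H := A)).coassoc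
    rw [AlgHom.comp_assoc, h1, ← AlgHom.comp_assoc, h2, AlgHom.comp_assoc, h3, ← AlgHom.comp_assoc,
      rhoπ, ← AlgHom.comp_assoc]
    congr 1
    rw [← Algebra.TensorProduct.map_comp, ← Algebra.TensorProduct.map_comp, BialgHom.map_comp_comulAlgHom]
  counit := by
    rw [rhoπ, ← AlgHom.comp_assoc, AlgHom.comp_assoc _ _ (Algebra.TensorProduct.map _ (π : A →ₐ[R] H)),
      ← Algebra.TensorProduct.map_comp, BialgHom.counitAlgHom_comp, AlgHom.comp_id]
    exact (isCoact_comul (R := R) (H := A)).counit

lemma rhoπ_eq_mul (π : A →ₐc[R] H) : toConv (rhoπ π) =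
    toConv (Algebra.TensorProduct.includeLeft : A →ₐ[R] A ⊗[R] H) *
      toConv ((Algebra.TensorProduct.includeRight : H →ₐ[R] A ⊗[R] H).comp (π : A →ₐ[R] H)) := by
  apply WithConv.ofConv_injective
  rw [mul_eq_lift]
  change (Algebra.TensorProduct.map (AlgHom.id R A) (π : A →ₐ[R] H)).comp (Bialgebra.comulAlgHom R A) = _
  congr 1
  ext a <;> simp

lemma can_surjective (π : A →ₐc[R] H) (hπ : Function.Surjective π) :
    Function.Surjective (can (rhoπ π)) := by
  let i₁ : A →ₐ[R] A ⊗[R] H := Algebra.TensorProduct.includeLeft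
  let g : A →ₐ[R] A ⊗[R] H := (Algebra.TensorProduct.includeRight : H →ₐ[R] A ⊗[R] H).comp (π : A →ₐ[R] H)
  let θ : A →ₐ[R] A ⊗[R] A := (Algebra.TensorProduct.map (HopfAlgebra.antipodeAlgHom R A)
    (AlgHom.id R A)).comp (Bialgebra.comulAlgHom R A)
  have h1 : (can (rhoπ π)).comp θ = g := by
    have h2 : (can (rhoπ π)).comp θ = (ptInv (toConv i₁) * toConv (rhoπ π)).ofConv := by
      rw [mul_eq_lift, ← AlgHom.comp_assoc]
      congr 1
      ext a
      · simp [i₁, can, ptInv]
      · simp [can, ← Algebra.TensorProduct.one_def]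
    rw [h2, rhoπ_eq_mul, ← mul_assoc, ptInv_mul, one_mul]
  intro y
  induction y using TensorProduct.induction_on with
  | zero => exact ⟨0, map_zero _⟩
  | add x y hx hy =>
    obtain ⟨x', rfl⟩ := hx
    obtain ⟨y', rfl⟩ := hy
    exact ⟨x' + y', map_add _ _ _⟩
  | tmul a h =>
    obtain ⟨b, rfl⟩ := hπ h
    refine ⟨(a ⊗ₜ 1) * θ b, ?_⟩
    have h3 : can (rhoπ π) (θ b) = 1 ⊗ₜ π b := AlgHom.congr_fun h1 b
    rw [map_mul, can_left, h3, Algebra.TensorProduct.tmul_mul_tmul, mul_one, one_mul]

section Ideal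

variable (R) (I : Ideal A) [I.IsHopfIdeal R]

/-- The coaction attached to a closed subgroup. -/
noncomputable abbrev rhoI : A →ₐ[R] A ⊗[R] (A ⧸ I) :=
  (Algebra.TensorProduct.map (AlgHom.id R A) (Ideal.Quotient.mkₐ R I)).comp (Bialgebra.comulAlgHom R A)

lemma rhoI_eq : rhoI R I = rhoπ (Bialgebra.Quotient.mkBialgHom (R := R) I) := rfl

lemma isCoact_rhoI : IsCoact (rhoI R I) := isCoact_rhoπ (Bialgebra.Quotient.mkBialgHom (R := R) I)

lemma surjective_can_rhoI : Function.Surjective (can (rhoI R I)) :=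
  can_surjective (Bialgebra.Quotient.mkBialgHom (R := R) I) Ideal.Quotient.mk_surjective

variable [Module.Finite R (A ⧸ I)] [Module.Projective R (A ⧸ I)]

theorem faithfullyFlat_inv : Module.FaithfullyFlat (inv (rhoI R I)) A :=
  faithfullyFlat (isCoact_rhoI R I) (surjective_can_rhoI R I)

theorem finite_inv : Module.Finite (inv (rhoI R I)) A :=
  finite (isCoact_rhoI R I) (surjective_can_rhoI R I)

theorem bijective_canB_rhoI : Function.Bijective (canB (rhoI R I)) :=
  bijective_canB (isCoact_rhoI R I) (surjective_can_rhoI R I)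

end Ideal

end K502.HopfQuot
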