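import Groth.Agent.Hopf.K502.PowPres
import Groth.Agent.Ega41.PowEval
import Groth.Agent.Ega3B.IdemLift
import Groth.Agent.Ega4B.CplFinite
import Groth.Agent.HopfRep.K187.Trunc
import Groth.Agent.HopfRep.K187.LocFin
import Mathlib.RingTheory.LocalRing.Module
import Mathlib.RingTheory.LocalRing.Quotient
import Mathlib.RingTheory.DiscreteValuationRing.Basic
import Mathlib.RingTheory.HopfAlgebra.TensorProduct

/-!
# Presentation of connected finite flat group schemes over a complete discrete valuation ring
-/

set_option autoImplicit false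
universe u v
open TensorProduct

namespace K502.LocPres

theorem complete_of_finite_local (R : Type u) [CommRing R]
    [IsLocalRing R] [IsNoetherianRing R] [IsAdicComplete (IsLocalRing.maximalIdeal R) R]
    (L : Type v) [CommRing L] [IsLocalRing L] [Algebra R L] [Module.Finite R L] :
    IsAdicComplete (IsLocalRing.maximalIdeal L) L := by
  have h1 : IsAdicComplete ((IsLocalRing.maximalIdeal R).map (algebraMap R L)) L :=
    Groth.Agent.Ega3B.IdemLift.isAdicComplete_map R L _
  have hle : (IsLocalRing.maximalIdeal R).map (algebraMap R L) ≤ IsLocalRing.maximalIdeal L := by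
    rw [Ideal.map_le_iff_le_comap]
    have : ((IsLocalRing.maximalIdeal L).comap (algebraMap R L)).IsMaximal :=
      Ideal.isMaximal_comap_of_isIntegral_of_isMaximal _
    rw [IsLocalRing.eq_maximalIdeal this]
  have hart : IsArtinianRing (L ⧸ (IsLocalRing.maximalIdeal R).map (algebraMap R L)) := by
    let _ : Field (R ⧸ IsLocalRing.maximalIdeal R) := Ideal.Quotient.field _
    have : Module.Finite (R ⧸ IsLocalRing.maximalIdeal R)
        (L ⧸ (IsLocalRing.maximalIdeal R).map (algebraMap R L)) :=
      Module.Finite.of_restrictScalars_finite R _ _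
    exact IsArtinianRing.of_finite (R ⧸ IsLocalRing.maximalIdeal R) _
  obtain ⟨k, hk⟩ := IsLocalRing.exists_maximalIdeal_pow_le_of_isArtinianRing_quotient
    ((IsLocalRing.maximalIdeal R).map (algebraMap R L))
  exact Groth.Agent.Ega4B.CplFinite.isAdicComplete_of_pow_le hle hk

section Trunc

variable {k : Type u} [Field k] {r : ℕ}

/-- The small monomials are linearly independent in the truncated polynomial algebra. -/
theorem linearIndependent_trunc (n : Fin r → ℕ) :
    LinearIndependent k (fun m : (i : Fin r) → Fin (n i) =>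
      (Ideal.Quotient.mk (K187.Trunc.truncIdeal k n) (MvPolynomial.monomial
        (Finsupp.equivFunOnFinite.symm (fun i => (m i : ℕ))) (1 : k)))) := by
  classical
  rw [Fintype.linearIndependent_iff]
  intro c hc a
  by_contra ha
  have h1 : ∑ m : (i : Fin r) → Fin (n i), c m • (Ideal.Quotient.mk (K187.Trunc.truncIdeal k n)
      (MvPolynomial.monomial (Finsupp.equivFunOnFinite.symm (fun i => (m i : ℕ))) (1 : k))) =
      Ideal.Quotient.mk (K187.Trunc.truncIdeal k n) (∑ m : (i : Fin r) → Fin (n i),
        MvPolynomial.monomial (Finsupp.equivFunOnFinite.symm (fun i => (m i : ℕ))) (c m)) := by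
    rw [map_sum]
    refine Finset.sum_congr rfl fun m _ => ?_
    have h2 : MvPolynomial.monomial (Finsupp.equivFunOnFinite.symm (fun i => (m i : ℕ))) (c m) =
        c m • MvPolynomial.monomial (Finsupp.equivFunOnFinite.symm (fun i => (m i : ℕ))) (1 : k) := by
      rw [MvPolynomial.smul_monomial, smul_eq_mul, mul_one]
    rw [h2]
    rfl
  rw [h1, Ideal.Quotient.eq_zero_iff_mem] at hc
  have h3 : K187.Trunc.truncIdeal k n = Ideal.span ((fun s => MvPolynomial.monomial s (1 : k)) ''
      (Set.range fun i : Fin r => Finsupp.single i (n i))) := by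
    rw [K187.Trunc.truncIdeal]
    congr 1
    rw [← Set.range_comp]
    congr 1
    funext i
    simp [MvPolynomial.X_pow_eq_monomial]
  rw [h3, MvPolynomial.mem_ideal_span_monomial_image] at hc
  obtain ⟨_, ⟨i, rfl⟩, hi⟩ := hc (Finsupp.equivFunOnFinite.symm (fun i => (a i : ℕ))) (by
    rw [MvPolynomial.mem_support_iff, MvPolynomial.coeff_sum]
    simp_rw [MvPolynomial.coeff_monomial]
    rw [Finset.sum_eq_single a]
    · simpa using ha
    · intro b _ hb
      rw [if_neg]
      intro h
      apply hb
      funext i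
      apply Fin.ext
      exact DFunLike.congr_fun h i
    · intro h
      exact absurd (Finset.mem_univ _) h)
  rw [Finsupp.single_le_iff] at hi
  exact absurd (a i).2 (not_lt.2 hi)

end Trunc

section Main

variable (R : Type u) [CommRing R] [IsLocalRing R] [IsNoetherianRing R]
  [IsAdicComplete (IsLocalRing.maximalIdeal R) R] {π : R} (hπ : IsLocalRing.maximalIdeal R = Ideal.span {π})
  (A : Type v) [CommRing A] [Algebra R A] [Module.Finite R A] [Module.Flat R A] [IsLocalRing A]

include hπ in
/-- Lifting a truncated polynomial presentation of the special fibre. -/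
theorem exists_pres {n : ℕ} (q : Fin n → ℕ) (hq : ∀ i, 0 < q i)
    (E : (IsLocalRing.ResidueField R ⊗[R] A) ≃ₐ[IsLocalRing.ResidueField R]
      (MvPolynomial (Fin n) (IsLocalRing.ResidueField R) ⧸ K187.Trunc.truncIdeal (IsLocalRing.ResidueField R) q))
    [Nontrivial (IsLocalRing.ResidueField R ⊗[R] A)] :
    ∃ g : Fin n → MvPolynomial (Fin n) R,
      (∀ i, (∀ d, (g i).coeff d ∈ IsLocalRing.maximalIdeal R) ∧ (g i).degreeOf i < q i) ∧
      Nonempty (A ≃ₐ[R] (MvPowerSeries (Fin n) R ⧸ PowPres.J q g)) := by
  classical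
  set k := IsLocalRing.ResidueField R with hk
  have hs : Function.Surjective (fun a : A => (1 : k) ⊗ₜ[R] a) := by
    intro z
    induction z using TensorProduct.induction_on with
    | zero => exact ⟨0, TensorProduct.tmul_zero _ _⟩
    | tmul c a =>
      obtain ⟨r, rfl⟩ := IsLocalRing.residue_surjective c
      refine ⟨r • a, ?_⟩
      change (1 : k) ⊗ₜ[R] (r • a) = _
      rw [← TensorProduct.smul_tmul]
      congr 1
      rw [Algebra.smul_def, mul_one]
      rfl
    | add x y hx hy =>
      obtain ⟨a, rfl⟩ := hx
      obtain ⟨b, rfl⟩ := hy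
      exact ⟨a + b, TensorProduct.tmul_add _ _ _⟩
  choose y hy using fun i => hs (E.symm (Ideal.Quotient.mk _ (MvPolynomial.X i)))
  let ι : A →ₐ[R] k ⊗[R] A := Algebra.TensorProduct.includeRight
  have hyι : ∀ i, ι (y i) = E.symm (Ideal.Quotient.mk _ (MvPolynomial.X i)) := hy
  let v : ((i : Fin n) → Fin (q i)) → A := fun a => ∏ i, y i ^ (a i : ℕ)
  have hv : ∀ a, ι (v a) = E.symm (Ideal.Quotient.mk _ (MvPolynomial.monomial
        (Finsupp.equivFunOnFinite.symm (fun i => (a i : ℕ))) (1 : k))) := by
    intro a
    rw [MvPolynomial.monomial_eq, map_one, one_mul, Finsupp.prod_fintype _ _ (fun i => pow_zero _), map_prod, map_prod,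
      map_prod]
    refine Finset.prod_congr rfl fun i _ => ?_
    rw [map_pow, hyι, map_pow, map_pow]
    rfl
  have hcomp : (TensorProduct.mk R k A 1 ∘ v) = E.symm.toLinearMap ∘ (fun m : (i : Fin n) → Fin (q i) =>
      (Ideal.Quotient.mk (K187.Trunc.truncIdeal k q) (MvPolynomial.monomial
        (Finsupp.equivFunOnFinite.symm (fun i => (m i : ℕ))) (1 : k)))) := funext hv
  have hli : LinearIndependent k (TensorProduct.mk R k A 1 ∘ v) := by
    rw [hcomp]
    exact (linearIndependent_trunc (k := k) q).map' E.symm.toLinearMap (LinearEquiv.ker E.symm.toLinearEquiv)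
  have hsp : Submodule.span k (Set.range (TensorProduct.mk R k A 1 ∘ v)) = ⊤ := by
    have h1 := congrArg (Submodule.map E.symm.toLinearMap) (K187.Trunc.span_eq_top (k := k) q)
    rw [Submodule.map_span, Submodule.map_top, LinearMap.range_eq_top.2 E.symm.surjective, ← Set.range_comp] at h1
    rw [hcomp]
    exact h1
  have : Module.FinitePresentation R A := Module.finitePresentation_of_finite R A
  obtain ⟨b, hb⟩ := Module.exists_basis_of_basis_baseChange v hli hsp
    (Module.Flat.rTensor_preserves_injective_linearMap (IsLocalRing.maximalIdeal R).subtype Subtype.val_injective)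
  -- the relations
  have hrel0 : ∀ i, ι (y i ^ q i) = 0 := by
    intro i
    rw [map_pow, hyι, ← map_pow, ← map_pow]
    have : Ideal.Quotient.mk (K187.Trunc.truncIdeal k q) ((MvPolynomial.X i : MvPolynomial (Fin n) k) ^ q i) = 0 :=
      Ideal.Quotient.eq_zero_iff_mem.2 (Ideal.subset_span ⟨i, rfl⟩)
    rw [this, map_zero]
  have hc : ∀ i a, b.repr (y i ^ q i) a ∈ IsLocalRing.maximalIdeal R := by
    intro i
    have h1 : ∑ a, IsLocalRing.residue R (b.repr (y i ^ q i) a) • (TensorProduct.mk R k A 1 ∘ v) a = 0 := by
      rw [← hrel0 i]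
      conv_rhs => rw [← b.sum_repr (y i ^ q i)]
      rw [map_sum]
      refine Finset.sum_congr rfl fun a _ => ?_
      rw [map_smul, hb]
      change IsLocalRing.residue R _ • ι (v a) = _
      rw [← algebraMap_smul k (b.repr (y i ^ q i) a) (ι (v a))]
      rfl
    intro a
    have h2 := Fintype.linearIndependent_iff.1 hli _ h1 a
    rwa [IsLocalRing.residue_eq_zero_iff] at h2
  let g : Fin n → MvPolynomial (Fin n) R := fun i => - ∑ a : (i : Fin n) → Fin (q i),
    MvPolynomial.monomial (Finsupp.equivFunOnFinite.symm (fun i => (a i : ℕ))) (b.repr (y i ^ q i) a)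
  have hg : ∀ i d, (g i).coeff d ∈ IsLocalRing.maximalIdeal R := by
    intro i d
    rw [MvPolynomial.coeff_neg, neg_mem_iff, MvPolynomial.coeff_sum]
    refine Ideal.sum_mem _ fun a _ => ?_
    rw [MvPolynomial.coeff_monomial]
    split_ifs
    · exact hc i a
    · exact zero_mem _
  refine ⟨g, fun i => ⟨hg i, ?_⟩, ?_⟩
  · rw [MvPolynomial.degreeOf_lt_iff (hq i)]
    intro m hm
    rw [MvPolynomial.mem_support_iff, MvPolynomial.coeff_neg, neg_ne_zero, MvPolynomial.coeff_sum] at hm
    obtain ⟨a, -, ha⟩ := Finset.exists_ne_zero_of_sum_ne_zero hm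
    rw [MvPolynomial.coeff_monomial] at ha
    split_ifs at ha with h
    · rw [← h]
      exact (a i).2
    · exact absurd rfl ha
  · have hcompl := complete_of_finite_local R A
    have hym : ∀ i, y i ∈ IsLocalRing.maximalIdeal A := by
      intro i
      rw [IsLocalRing.mem_maximalIdeal, mem_nonunits_iff]
      intro hu
      have h1 : IsUnit (ι (y i ^ q i)) := (hu.pow _).map ι
      rw [hrel0] at h1
      exact not_isUnit_zero h1
    exact PowPres.nonempty_equiv q hπ g hg y b hb (by
      intro i
      have h1 : MvPolynomial.aeval y (g i) = - ∑ a, (b.repr (y i ^ q i) a) • b a := by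
        simp only [g]
        rw [map_neg, map_sum]
        congr 1
        refine Finset.sum_congr rfl fun a _ => ?_
        rw [MvPolynomial.aeval_monomial, hb, Finsupp.prod_fintype _ _ (fun i => pow_zero _), Algebra.smul_def]
        rfl
      rw [h1, b.sum_repr, add_neg_cancel]) (Groth.Agent.Ega41.PowEval.powEval (IsLocalRing.maximalIdeal A) y hym)
      (fun i => Groth.Agent.Ega41.PowEval.powEval_X _ y hym i)

end Main

end K502.LocPres
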