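import Mathlib.RingTheory.MvPowerSeries.Basic
import Mathlib.RingTheory.AdicCompletion.Functoriality
import Mathlib.RingTheory.MvPolynomial.Ideal
import Mathlib.RingTheory.Ideal.Quotient.Operations

/-!
# Presentations `R⟦X⟧ / (X_i ^ q_i + g_i)` with `g_i` small, over a ring complete for a principal ideal
-/

set_option autoImplicit false
universe u v
open MvPowerSeries Finsupp

namespace K502.PowPres

section Complete

variable {R : Type u} [CommRing R] {σ : Type*} {I : Ideal R} {π : R} (hI : I = Ideal.span {π})

include hI in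
theorem mem_pow_smul_top_iff (k : ℕ) (F : MvPowerSeries σ R) :
    F ∈ (I ^ k • ⊤ : Submodule R (MvPowerSeries σ R)) ↔ ∀ m, coeff m F ∈ I ^ k := by
  constructor
  · intro h m
    induction h using Submodule.smul_induction_on' with
    | smul r hr G _ =>
      rw [map_smul, smul_eq_mul]
      exact Ideal.mul_mem_right _ _ hr
    | add x _ y _ hx hy =>
      rw [map_add]
      exact add_mem hx hy
  · intro h
    have h1 : ∀ m, ∃ c, coeff m F = π ^ k * c := by
      intro m
      have := h m
      rw [hI, Ideal.span_singleton_pow, Ideal.mem_span_singleton] at this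
      exact this
    choose c hc using h1
    have h2 : F = π ^ k • (show MvPowerSeries σ R from c) := by
      ext m
      rw [hc, map_smul, smul_eq_mul]
      rfl
    rw [h2]
    refine Submodule.smul_mem_smul ?_ Submodule.mem_top
    rw [hI]
    exact Ideal.pow_mem_pow (Ideal.mem_span_singleton_self π) k

include hI in
theorem isHausdorff [IsHausdorff I R] : IsHausdorff I (MvPowerSeries σ R) := by
  refine ⟨fun F hF => ?_⟩
  ext m
  rw [map_zero]
  refine IsHausdorff.haus' (I := I) _ fun k => ?_
  have h1 := hF k
  rw [SModEq.zero, mem_pow_smul_top_iff hI] at h1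
  rw [SModEq.zero, smul_eq_mul, Ideal.mul_top]
  exact h1 m

include hI in
theorem isPrecomplete [IsPrecomplete I R] : IsPrecomplete I (MvPowerSeries σ R) := by
  refine ⟨fun f hf => ?_⟩
  have h1 : ∀ m : σ →₀ ℕ, ∃ L : R, ∀ k, coeff m (f k) - L ∈ I ^ k := by
    intro m
    obtain ⟨L, hL⟩ := IsPrecomplete.prec' (I := I) (M := R) (fun k => coeff m (f k)) (by
      intro a b hab
      have h2 := hf hab
      rw [SModEq.sub_mem, mem_pow_smul_top_iff hI] at h2
      rw [SModEq.sub_mem, smul_eq_mul, Ideal.mul_top, ← map_sub]
      exact h2 m)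
    refine ⟨L, fun k => ?_⟩
    have h3 := hL k
    rw [SModEq.sub_mem, smul_eq_mul, Ideal.mul_top] at h3
    exact h3
  choose L hL using h1
  refine ⟨(show MvPowerSeries σ R from L), fun k => ?_⟩
  rw [SModEq.sub_mem, mem_pow_smul_top_iff hI]
  intro m
  rw [map_sub]
  exact hL m k

end Complete

section Division

variable {R : Type u} [CommRing R] {n : ℕ} (q : Fin n → ℕ)

open Classical in
/-- An index in which a monomial is large, if there is one. -/
noncomputable def ch (b : Fin n →₀ ℕ) : Option (Fin n) :=
  if h : ∃ i, q i ≤ b i then some h.choose else none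

theorem le_of_ch {b : Fin n →₀ ℕ} {i : Fin n} (h : ch q b = some i) : q i ≤ b i := by
  unfold ch at h
  split_ifs at h with h1
  rw [Option.some.injEq] at h
  rw [← h]
  exact h1.choose_spec

theorem lt_of_ch {b : Fin n →₀ ℕ} (h : ch q b = none) (i : Fin n) : b i < q i := by
  unfold ch at h
  split_ifs at h with h1
  push Not at h1
  exact h1 i

theorem ch_eq_none {b : Fin n →₀ ℕ} (h : ∀ i, b i < q i) : ch q b = none := by
  unfold ch
  rw [dif_neg]
  rintro ⟨i, hi⟩
  exact absurd (h i) (not_lt.2 hi)

open Classical in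
/-- quotient of the division by `X_i ^ q_i`. -/
noncomputable def G (i : Fin n) : MvPowerSeries (Fin n) R →ₗ[R] MvPowerSeries (Fin n) R where
  toFun F := fun m => if ch q (m + single i (q i)) = some i then coeff (m + single i (q i)) F else 0
  map_add' F F' := by
    ext m
    change (if ch q (m + single i (q i)) = some i then coeff (m + single i (q i)) (F + F') else 0) =
      (if ch q (m + single i (q i)) = some i then coeff (m + single i (q i)) F else 0) +
      (if ch q (m + single i (q i)) = some i then coeff (m + single i (q i)) F' else 0)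
    split_ifs
    · rw [map_add]
    · rw [add_zero]
  map_smul' r F := by
    ext m
    change (if ch q (m + single i (q i)) = some i then coeff (m + single i (q i)) (r • F) else 0) =
      r * (if ch q (m + single i (q i)) = some i then coeff (m + single i (q i)) F else 0)
    split_ifs
    · rw [map_smul, smul_eq_mul]
    · rw [mul_zero]

open Classical in
theorem coeff_G (i : Fin n) (F : MvPowerSeries (Fin n) R) (m : Fin n →₀ ℕ) :
    coeff m (G q i F) = if ch q (m + single i (q i)) = some i then coeff (m + single i (q i)) F else 0 := rfl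

open Classical in
/-- remainder. -/
noncomputable def P : MvPowerSeries (Fin n) R →ₗ[R] MvPowerSeries (Fin n) R where
  toFun F := fun m => if ch q m = none then coeff m F else 0
  map_add' F F' := by
    ext m
    change (if ch q m = none then coeff m (F + F') else 0) =
      (if ch q m = none then coeff m F else 0) + (if ch q m = none then coeff m F' else 0)
    split_ifs
    · rw [map_add]
    · rw [add_zero]
  map_smul' r F := by
    ext m
    change (if ch q m = none then coeff m (r • F) else 0) = r * (if ch q m = none then coeff m F else 0)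
    split_ifs
    · rw [map_smul, smul_eq_mul]
    · rw [mul_zero]

open Classical in
theorem coeff_P (F : MvPowerSeries (Fin n) R) (m : Fin n →₀ ℕ) :
    coeff m (P q F) = if ch q m = none then coeff m F else 0 := rfl

theorem decomp (F : MvPowerSeries (Fin n) R) : F = P q F + ∑ i, X i ^ q i * G q i F := by
  classical
  ext b
  rw [map_add, coeff_P, map_sum]
  have h1 : ∀ i, coeff b (X i ^ q i * G q i F) = if ch q b = some i then coeff b F else 0 := by
    intro i
    rw [X_pow_eq, coeff_monomial_mul, one_mul]
    by_cases hb : single i (q i) ≤ b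
    · rw [if_pos hb, coeff_G, tsub_add_cancel_of_le hb]
    · rw [if_neg hb, if_neg]
      intro h
      apply hb
      rw [Finsupp.single_le_iff]
      exact le_of_ch q h
  simp_rw [h1]
  rcases h : ch q b with - | j
  · simp
  · rw [if_neg (by simp), zero_add]
    simp

variable {I : Ideal R} {π : R} (hI : I = Ideal.span {π}) [IsAdicComplete I R]
  (g : Fin n → MvPolynomial (Fin n) R) (hg : ∀ i d, (g i).coeff d ∈ I)

include hI hg in
/-- Division by the system `X_i ^ q_i + g_i`. -/
theorem exists_div (F : MvPowerSeries (Fin n) R) : ∃ H : MvPowerSeries (Fin n) R,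
    F = P q H + ∑ i, (X i ^ q i + (g i : MvPowerSeries (Fin n) R)) * G q i H := by
  classical
  have := isHausdorff (σ := Fin n) hI
  have := isPrecomplete (σ := Fin n) hI
  let T : MvPowerSeries (Fin n) R →ₗ[R] MvPowerSeries (Fin n) R :=
    LinearMap.id + ∑ i, (LinearMap.mulLeft R (g i : MvPowerSeries (Fin n) R)) ∘ₗ G q i
  have hT : ∀ H, T H = H + ∑ i, (g i : MvPowerSeries (Fin n) R) * G q i H := by
    intro H
    simp [T]
  have hs : Function.Surjective T := by
    apply surjective_of_mkQ_comp_surjective (I := I)
    intro y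
    obtain ⟨F, rfl⟩ := Submodule.mkQ_surjective _ y
    refine ⟨F, ?_⟩
    rw [LinearMap.comp_apply, ← sub_eq_zero, ← map_sub, Submodule.mkQ_apply, Submodule.Quotient.mk_eq_zero,
      hT, add_sub_cancel_left]
    refine Submodule.sum_mem _ fun i _ => ?_
    have h1 := (mem_pow_smul_top_iff hI 1 ((g i : MvPowerSeries (Fin n) R) * G q i F)).2
    rw [pow_one] at h1
    apply h1
    intro m
    rw [coeff_mul]
    refine Ideal.sum_mem _ fun p _ => Ideal.mul_mem_right _ _ ?_
    rw [MvPolynomial.coeff_coe]
    exact hg i _
  obtain ⟨H, hH⟩ := hs F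
  refine ⟨H, ?_⟩
  have h1 := decomp q H
  rw [← hH, hT]
  simp only [add_mul, Finset.sum_add_distrib]
  rw [← add_assoc, ← h1]

open Classical in
/-- The remainder is a combination of small monomials. -/
theorem P_eq_sum (F : MvPowerSeries (Fin n) R) :
    P q F = ∑ a : (i : Fin n) → Fin (q i), monomial (Finsupp.equivFunOnFinite.symm fun i => (a i : ℕ))
      (coeff (Finsupp.equivFunOnFinite.symm fun i => (a i : ℕ)) F) := by
  ext b
  rw [coeff_P, map_sum]
  simp_rw [coeff_monomial]
  by_cases hb : ∀ i, b i < q i
  · rw [if_pos (ch_eq_none q hb), Finset.sum_eq_single (fun i => (⟨b i, hb i⟩ : Fin (q i)))]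
    · have h1 : Finsupp.equivFunOnFinite.symm (fun i => b i) = b := by
        ext i
        rfl
      simp only [h1, if_true]
    · intro a _ ha
      rw [if_neg]
      intro h
      apply ha
      funext i
      apply Fin.ext
      have := DFunLike.congr_fun h i
      exact this.symm
    · intro h
      exact absurd (Finset.mem_univ _) h
  · rw [if_neg, eq_comm]
    · refine Finset.sum_eq_zero fun a _ => ?_
      rw [if_neg]
      rintro rfl
      apply hb
      intro i
      exact (a i).2
    · intro h
      exact hb (lt_of_ch q h)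

end Division

section Main

variable {R : Type u} [CommRing R] {n : ℕ} (q : Fin n → ℕ) {I : Ideal R} {π : R} (hI : I = Ideal.span {π})
  [IsAdicComplete I R] (g : Fin n → MvPolynomial (Fin n) R) (hg : ∀ i d, (g i).coeff d ∈ I)

/-- the ideal of the relations -/
noncomputable abbrev J : Ideal (MvPowerSeries (Fin n) R) :=
  Ideal.span (Set.range fun i => (MvPowerSeries.X i : MvPowerSeries (Fin n) R) ^ q i + (g i : MvPowerSeries (Fin n) R))

include hI hg in
theorem exists_eq_sum (z : MvPowerSeries (Fin n) R ⧸ J q g) :
    ∃ c : ((i : Fin n) → Fin (q i)) → R, z = ∑ a, c a •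
      Ideal.Quotient.mk (J q g) (monomial (Finsupp.equivFunOnFinite.symm fun i => (a i : ℕ)) 1) := by
  obtain ⟨F, rfl⟩ := Ideal.Quotient.mk_surjective z
  obtain ⟨H, hH⟩ := exists_div q hI g hg F
  refine ⟨fun a => coeff (Finsupp.equivFunOnFinite.symm fun i => (a i : ℕ)) H, ?_⟩
  have h1 : Ideal.Quotient.mk (J q g) F = Ideal.Quotient.mk (J q g) (P q H) := by
    rw [Ideal.Quotient.eq]
    nth_rewrite 1 [hH]
    rw [add_sub_cancel_left]
    refine Ideal.sum_mem _ fun i _ => Ideal.mul_mem_right _ _ (Ideal.subset_span ⟨i, rfl⟩)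
  rw [h1, P_eq_sum, map_sum]
  refine Finset.sum_congr rfl fun a _ => ?_
  have h2 : monomial (R := R) (Finsupp.equivFunOnFinite.symm fun i => (a i : ℕ))
      (coeff (Finsupp.equivFunOnFinite.symm fun i => (a i : ℕ)) H) =
      (coeff (Finsupp.equivFunOnFinite.symm fun i => (a i : ℕ)) H) •
        monomial (Finsupp.equivFunOnFinite.symm fun i => (a i : ℕ)) 1 := by
    rw [← map_smul, smul_eq_mul, mul_one]
  rw [h2]
  rfl

include hI hg in
theorem nonempty_equiv {A : Type v} [CommRing A] [Algebra R A] (y : Fin n → A)
    (b : Module.Basis ((i : Fin n) → Fin (q i)) R A) (hb : ∀ a, b a = ∏ i, y i ^ (a i : ℕ))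
    (hrel : ∀ i, y i ^ q i + MvPolynomial.aeval y (g i) = 0)
    (φ : MvPowerSeries (Fin n) R →ₐ[R] A) (hφ : ∀ i, φ (X i) = y i) :
    Nonempty (A ≃ₐ[R] (MvPowerSeries (Fin n) R ⧸ J q g)) := by
  have hpoly : ∀ p : MvPolynomial (Fin n) R, φ (p : MvPowerSeries (Fin n) R) = MvPolynomial.aeval y p := by
    intro p
    have h1 : φ.comp (MvPolynomial.coeToMvPowerSeries.algHom R) = MvPolynomial.aeval y := by
      apply MvPolynomial.algHom_ext
      intro i
      simpa using hφ i
    simpa using DFunLike.congr_fun h1 p
  have hJ : ∀ F ∈ J q g, φ F = 0 := by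
    have h1 : J q g ≤ RingHom.ker φ := by
      rw [Ideal.span_le]
      rintro _ ⟨i, rfl⟩
      change φ _ = 0
      rw [map_add, map_pow, hφ, hpoly, hrel]
    exact fun F hF => h1 hF
  let ψ : (MvPowerSeries (Fin n) R ⧸ J q g) →ₐ[R] A := Ideal.Quotient.liftₐ (J q g) φ hJ
  have hψ : ∀ a : (i : Fin n) → Fin (q i), ψ (Ideal.Quotient.mk (J q g)
      (monomial (Finsupp.equivFunOnFinite.symm fun i => (a i : ℕ)) 1)) = b a := by
    intro a
    change φ _ = _
    have h1 : monomial (Finsupp.equivFunOnFinite.symm fun i => (a i : ℕ)) (1 : R) =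
        ((MvPolynomial.monomial (Finsupp.equivFunOnFinite.symm fun i => (a i : ℕ)) (1 : R) :
          MvPolynomial (Fin n) R) : MvPowerSeries (Fin n) R) := by
      rw [MvPolynomial.coe_monomial]
    rw [h1, hpoly, MvPolynomial.aeval_monomial, map_one, one_mul, hb, Finsupp.prod_fintype]
    · rfl
    · intro i
      rw [pow_zero]
  have hinj : Function.Injective ψ := by
    rw [injective_iff_map_eq_zero]
    intro z hz
    obtain ⟨c, rfl⟩ := exists_eq_sum q hI g hg z
    rw [map_sum] at hz
    simp_rw [map_smul, hψ] at hz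
    have h1 := Fintype.linearIndependent_iff.1 b.linearIndependent c hz
    refine Finset.sum_eq_zero fun a _ => ?_
    rw [h1 a, zero_smul]
  have hsurj : Function.Surjective ψ := by
    intro x
    refine ⟨∑ a, b.repr x a • Ideal.Quotient.mk (J q g)
      (monomial (Finsupp.equivFunOnFinite.symm fun i => (a i : ℕ)) 1), ?_⟩
    rw [map_sum]
    simp_rw [map_smul, hψ]
    exact b.sum_repr x
  exact ⟨(AlgEquiv.ofBijective ψ ⟨hinj, hsurj⟩).symm⟩

end Main

end K502.PowPres
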