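import Mathlib.RingTheory.HopfAlgebra.Convolution
import Mathlib.RingTheory.TensorProduct.Maps

/-!
# Ring-level points of tensor products and of Hopf algebras

Ring homomorphisms `X ⊗[R] Y →+* T` into a ring `T` without a fixed `R`-algebra structure,
and the (partial) multiplication of ring-level points of a Hopf algebra, action by a coaction.
-/

set_option autoImplicit false
open TensorProduct

namespace K502.RPair

section Pair

variable {R X Y Z T T' : Type*} [CommRing R] [CommRing X] [CommRing Y] [CommRing Z] [CommRing T]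
  [CommRing T'] [Algebra R X] [Algebra R Y] [Algebra R Z]

/-- The ring map out of a tensor product with given components. -/
noncomputable def pair (x : X →+* T) (y : Y →+* T)
    (h : x.comp (algebraMap R X) = y.comp (algebraMap R Y)) : X ⊗[R] Y →+* T :=
  letI : Algebra R T := (x.comp (algebraMap R X)).toAlgebra
  (Algebra.TensorProduct.lift (⟨x, fun _ => rfl⟩ : X →ₐ[R] T)
    (⟨y, fun r => (congrArg (fun f : R →+* T => f r) h).symm⟩ : Y →ₐ[R] T)
    (fun _ _ => Commute.all _ _) : X ⊗[R] Y →ₐ[R] T).toRingHom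

@[simp] lemma pair_tmul (x : X →+* T) (y : Y →+* T)
    (h : x.comp (algebraMap R X) = y.comp (algebraMap R Y)) (a : X) (b : Y) :
    pair x y h (a ⊗ₜ b) = x a * y b := rfl

lemma hom_ext {f g : X ⊗[R] Y →+* T} (h₁ : ∀ a, f (a ⊗ₜ 1) = g (a ⊗ₜ 1))
    (h₂ : ∀ b, f (1 ⊗ₜ b) = g (1 ⊗ₜ b)) : f = g := by
  refine RingHom.ext fun z => ?_
  induction z using TensorProduct.induction_on with
  | zero => rw [map_zero, map_zero]
  | add x y hx hy => rw [map_add, map_add, hx, hy]
  | tmul a b =>
    have : (a ⊗ₜ b : X ⊗[R] Y) = (a ⊗ₜ 1) * (1 ⊗ₜ b) := by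
      rw [Algebra.TensorProduct.tmul_mul_tmul, mul_one, one_mul]
    rw [this, map_mul, map_mul, h₁, h₂]

variable (R X Y) in
/-- the left inclusion, as a ring map. -/
noncomputable def inl : X →+* X ⊗[R] Y := Algebra.TensorProduct.includeLeftRingHom

variable (R X Y) in
/-- the right inclusion, as a ring map. -/
noncomputable def inr : Y →+* X ⊗[R] Y :=
  (Algebra.TensorProduct.includeRight : Y →ₐ[R] X ⊗[R] Y).toRingHom

@[simp] lemma inl_apply (a : X) : inl R X Y a = a ⊗ₜ 1 := rfl
@[simp] lemma inr_apply (a : Y) : inr R X Y a = 1 ⊗ₜ a := rfl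

@[simp] lemma pair_comp_inl (x : X →+* T) (y : Y →+* T)
    (h : x.comp (algebraMap R X) = y.comp (algebraMap R Y)) : (pair x y h).comp (inl R X Y) = x := by
  ext a
  simp

@[simp] lemma pair_comp_inr (x : X →+* T) (y : Y →+* T)
    (h : x.comp (algebraMap R X) = y.comp (algebraMap R Y)) : (pair x y h).comp (inr R X Y) = y := by
  ext a
  simp

lemma inl_comp_algebraMap : (inl R X Y).comp (algebraMap R X) = algebraMap R (X ⊗[R] Y) := rfl

lemma inr_comp_algebraMap : (inr R X Y).comp (algebraMap R Y) = algebraMap R (X ⊗[R] Y) := by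
  ext r
  exact (Algebra.TensorProduct.includeRight : Y →ₐ[R] X ⊗[R] Y).commutes r

lemma pair_comp_algebraMap (x : X →+* T) (y : Y →+* T)
    (h : x.comp (algebraMap R X) = y.comp (algebraMap R Y)) :
    (pair x y h).comp (algebraMap R (X ⊗[R] Y)) = x.comp (algebraMap R X) := by
  rw [← inl_comp_algebraMap, ← RingHom.comp_assoc, pair_comp_inl]

lemma pair_comp_algebraMap' (x : X →+* T) (y : Y →+* T)
    (h : x.comp (algebraMap R X) = y.comp (algebraMap R Y)) :
    (pair x y h).comp (algebraMap R (X ⊗[R] Y)) = y.comp (algebraMap R Y) := by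
  rw [pair_comp_algebraMap, h]

lemma compat (f : X ⊗[R] Y →+* T) :
    (f.comp (inl R X Y)).comp (algebraMap R X) = (f.comp (inr R X Y)).comp (algebraMap R Y) := by
  rw [RingHom.comp_assoc, RingHom.comp_assoc, inl_comp_algebraMap, inr_comp_algebraMap]

lemma pair_eta (f : X ⊗[R] Y →+* T) : pair (f.comp (inl R X Y)) (f.comp (inr R X Y)) (compat f) = f := by
  apply hom_ext
  · intro a
    rw [pair_tmul, map_one, mul_one]
    rfl
  · intro a
    rw [pair_tmul, map_one, one_mul]
    rfl

lemma comp_pair (f : T →+* T') (x : X →+* T) (y : Y →+* T)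
    (h : x.comp (algebraMap R X) = y.comp (algebraMap R Y)) :
    f.comp (pair x y h) = pair (f.comp x) (f.comp y) (by rw [RingHom.comp_assoc, h, RingHom.comp_assoc]) := by
  apply hom_ext
  · intro a
    simp
  · intro a
    simp

lemma comp_algebraMap_alg (f : X →ₐ[R] Y) : (f : X →+* Y).comp (algebraMap R X) = algebraMap R Y := by
  ext r
  exact f.commutes r

end Pair

section Act

variable {R A H T T' : Type*} [CommRing R] [CommRing A] [CommRing H] [CommRing T] [CommRing T']
  [Algebra R A] [Bialgebra R H]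

/-- The product of two ring-level points of `H`. -/
noncomputable def rmul (g g' : H →+* T) (h : g.comp (algebraMap R H) = g'.comp (algebraMap R H)) :
    H →+* T := (pair g g' h).comp (Bialgebra.comulAlgHom R H : H →+* H ⊗[R] H)

/-- The action of a point of `H` on a point of `A`. -/
noncomputable def ract (ρ : A →ₐ[R] A ⊗[R] H) (x : A →+* T) (g : H →+* T)
    (h : x.comp (algebraMap R A) = g.comp (algebraMap R H)) : A →+* T :=
  (pair x g h).comp (ρ : A →+* A ⊗[R] H)

lemma rmul_eq_ract (g g' : H →+* T) (h : g.comp (algebraMap R H) = g'.comp (algebraMap R H)) :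
    rmul g g' h = ract (Bialgebra.comulAlgHom R H) g g' h := rfl

variable (ρ : A →ₐ[R] A ⊗[R] H)

lemma ract_comp_algebraMap (x : A →+* T) (g : H →+* T)
    (h : x.comp (algebraMap R A) = g.comp (algebraMap R H)) :
    (ract ρ x g h).comp (algebraMap R A) = x.comp (algebraMap R A) := by
  rw [ract, RingHom.comp_assoc, comp_algebraMap_alg, pair_comp_algebraMap]

lemma rmul_comp_algebraMap (g g' : H →+* T) (h : g.comp (algebraMap R H) = g'.comp (algebraMap R H)) :
    (rmul g g' h).comp (algebraMap R H) = g.comp (algebraMap R H) := ract_comp_algebraMap _ _ _ _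

lemma comp_ract (f : T →+* T') (x : A →+* T) (g : H →+* T)
    (h : x.comp (algebraMap R A) = g.comp (algebraMap R H)) :
    f.comp (ract ρ x g h) = ract ρ (f.comp x) (f.comp g)
      (by rw [RingHom.comp_assoc, h, RingHom.comp_assoc]) := by
  rw [ract, ract, ← RingHom.comp_assoc, comp_pair]

lemma comp_rmul (f : T →+* T') (g g' : H →+* T)
    (h : g.comp (algebraMap R H) = g'.comp (algebraMap R H)) :
    f.comp (rmul g g' h) = rmul (f.comp g) (f.comp g')
      (by rw [RingHom.comp_assoc, h, RingHom.comp_assoc]) := comp_ract _ _ _ _ _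

variable (R T) in
/-- the neutral point over a given point of `R`. -/
noncomputable def rone (c : R →+* T) : H →+* T := c.comp (Bialgebra.counitAlgHom R H : H →+* R)

lemma rone_comp_algebraMap (c : R →+* T) : (rone R T c : H →+* T).comp (algebraMap R H) = c := by
  rw [rone, RingHom.comp_assoc, comp_algebraMap_alg]
  exact RingHom.comp_id _

lemma comp_rone (f : T →+* T') (c : R →+* T) : f.comp (rone R T c : H →+* T) = rone R T' (f.comp c) := rfl

/-- coassociativity and counitality of an algebra coaction. -/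
structure IsCoact (ρ : A →ₐ[R] A ⊗[R] H) : Prop where
  coassoc : ((Algebra.TensorProduct.assoc R R R A H H).toAlgHom.comp
    (Algebra.TensorProduct.map ρ (AlgHom.id R H))).comp ρ =
      (Algebra.TensorProduct.map (AlgHom.id R A) (Bialgebra.comulAlgHom R H)).comp ρ
  counit : ((Algebra.TensorProduct.rid R R A).toAlgHom.comp
    (Algebra.TensorProduct.map (AlgHom.id R A) (Bialgebra.counitAlgHom R H))).comp ρ = AlgHom.id R A

lemma isCoact_comul : IsCoact (Bialgebra.comulAlgHom R H) where
  coassoc := by
    apply AlgHom.toLinearMap_injective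
    exact Coalgebra.coassoc
  counit := by
    ext a
    have h1 := Coalgebra.lTensor_counit_comul (R := R) a
    change (TensorProduct.rid R H) ((CoalgebraStruct.counit (R := R) (A := H)).lTensor H
      (CoalgebraStruct.comul (R := R) a)) = a
    rw [h1, TensorProduct.rid_tmul, one_smul]

variable {ρ}

lemma IsCoact.ract_one (hρ : IsCoact ρ) (x : A →+* T) (c : R →+* T)
    (h : x.comp (algebraMap R A) = (rone R T c : H →+* T).comp (algebraMap R H)) :
    ract ρ x (rone R T c) h = x := by
  have h0 : x.comp (algebraMap R A) = c := h.trans (rone_comp_algebraMap c)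
  subst h0
  have h1 : pair x (rone R T (x.comp (algebraMap R A)) : H →+* T) h =
      x.comp (((Algebra.TensorProduct.rid R R A).toAlgHom.comp
        (Algebra.TensorProduct.map (AlgHom.id R A) (Bialgebra.counitAlgHom R H)) : A ⊗[R] H →ₐ[R] A) :
          A ⊗[R] H →+* A) := by
    apply hom_ext
    · intro a
      simp
    · intro b
      simp [rone, Algebra.algebraMap_eq_smul_one]
  rw [ract, h1]
  ext a
  exact congrArg x (AlgHom.congr_fun hρ.counit a)

lemma IsCoact.ract_ract (hρ : IsCoact ρ) (x : A →+* T) (g g' : H →+* T)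
    (h : x.comp (algebraMap R A) = g.comp (algebraMap R H))
    (h' : (ract ρ x g h).comp (algebraMap R A) = g'.comp (algebraMap R H))
    (h₂ : g.comp (algebraMap R H) = g'.comp (algebraMap R H))
    (h₃ : x.comp (algebraMap R A) = (rmul g g' h₂).comp (algebraMap R H)) :
    ract ρ (ract ρ x g h) g' h' = ract ρ x (rmul g g' h₂) h₃ := by
  -- the common value on `A ⊗ (H ⊗ H)`
  have h4 : x.comp (algebraMap R A) = (pair g g' h₂).comp (algebraMap R (H ⊗[R] H)) := by
    rw [pair_comp_algebraMap, h]
  let P : A ⊗[R] (H ⊗[R] H) →+* T := pair x (pair g g' h₂) h4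
  have h5 : pair (ract ρ x g h) g' h' = P.comp
      (((Algebra.TensorProduct.assoc R R R A H H).toAlgHom.comp
        (Algebra.TensorProduct.map ρ (AlgHom.id R H)) : A ⊗[R] H →ₐ[R] A ⊗[R] (H ⊗[R] H)) :
          A ⊗[R] H →+* A ⊗[R] (H ⊗[R] H)) := by
    apply hom_ext
    · intro a
      rw [pair_tmul, map_one, mul_one, ract, RingHom.comp_apply]
      have h6 : pair x g h = P.comp ((((Algebra.TensorProduct.assoc R R R A H H).toAlgHom.comp
        (Algebra.TensorProduct.includeLeft : A ⊗[R] H →ₐ[R] (A ⊗[R] H) ⊗[R] H)) :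
          A ⊗[R] H →ₐ[R] A ⊗[R] (H ⊗[R] H)) : A ⊗[R] H →+* A ⊗[R] (H ⊗[R] H)) := by
        apply hom_ext
        · intro b
          simp [P]
        · intro b
          simp [P]
      rw [h6]
      simp
    · intro b
      simp [P]
      simp [Algebra.TensorProduct.one_def]
  have h7 : pair x (rmul g g' h₂) h₃ = P.comp
      (Algebra.TensorProduct.map (AlgHom.id R A) (Bialgebra.comulAlgHom R H) :
        A ⊗[R] H →+* A ⊗[R] (H ⊗[R] H)) := by
    apply hom_ext
    · intro a
      simp [P]
    · intro b
      simp [P, rmul]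
  change (pair (ract ρ x g h) g' h').comp (ρ : A →+* A ⊗[R] H) =
    (pair x (rmul g g' h₂) h₃).comp (ρ : A →+* A ⊗[R] H)
  rw [h5, h7]
  refine RingHom.ext fun a => ?_
  exact congrArg P (AlgHom.congr_fun hρ.coassoc a)

end Act

end K502.RPair
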