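import Mathlib.RingTheory.Spectrum.Prime.FreeLocus
import Mathlib.RingTheory.IsTensorProduct
import Mathlib.RingTheory.LocalRing.Module
import Mathlib.RingTheory.Artinian.Module

/-!
# Multiplicativity of ranks in towers
-/

set_option autoImplicit false
open TensorProduct

namespace K502.RankTower

theorem finrank_mul_of_rankAtStalk (k : Type*) {A M : Type*} [Field k] [CommRing A] [Algebra k A]
    [Module.Finite k A] [AddCommGroup M] [Module A M] [Module k M] [IsScalarTower k A M]
    [Module.Finite A M] [Module.Flat A M] (n : ℕ)
    (h : ∀ p, Module.rankAtStalk (R := A) M p = n) : Module.finrank k M = n * Module.finrank k A := by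
  have : IsArtinianRing A := IsArtinianRing.of_finite k A
  have hb : Nonempty (Module.Basis (Fin n) A M) := by
    apply Module.nonempty_basis_of_flat_of_finrank_eq A M n
    intro P
    let := Ideal.Quotient.field P.asIdeal
    have e1 := Module.rankAtStalk_baseChange (R := A) (M := M) (S := A ⧸ P.asIdeal) ⟨⊥, Ideal.isPrime_bot⟩
    rw [h, Module.rankAtStalk_eq_finrank_of_free] at e1
    exact e1
  obtain ⟨b⟩ := hb
  rw [((b.equivFun).restrictScalars k).finrank_eq, Module.finrank_pi_fintype]
  simp

attribute [local instance] Algebra.TensorProduct.rightAlgebra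

/-- Ranks are multiplicative in towers, when the upper rank is constant on the fibre. -/
theorem rankAtStalk_tower {R B A : Type*} [CommRing R] [CommRing B] [CommRing A] [Algebra R B]
    [Algebra B A] [Algebra R A] [IsScalarTower R B A] [Module.Finite R B] [Module.Flat R B]
    [Module.Finite B A] [Module.Flat B A] [Module.Finite R A] [Module.Flat R A]
    (q : PrimeSpectrum R) (n : ℕ)
    (h : ∀ p : PrimeSpectrum B, p.comap (algebraMap R B) = q → Module.rankAtStalk (R := B) A p = n) :
    Module.rankAtStalk (R := R) A q = n * Module.rankAtStalk (R := R) B q := by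
  rw [Module.rankAtStalk_eq, Module.rankAtStalk_eq]
  change Module.finrank q.asIdeal.ResidueField (q.asIdeal.ResidueField ⊗[R] A) =
    n * Module.finrank q.asIdeal.ResidueField (q.asIdeal.ResidueField ⊗[R] B)
  let κ := q.asIdeal.ResidueField
  have e := (Algebra.IsPushout.cancelBaseChange R κ B (κ ⊗[R] B) A).finrank_eq
  rw [← e]
  apply finrank_mul_of_rankAtStalk
  intro p
  rw [Module.rankAtStalk_baseChange]
  apply h
  rw [← PrimeSpectrum.comap_comp_apply, ← IsScalarTower.algebraMap_eq,
    IsScalarTower.algebraMap_eq R κ (κ ⊗[R] B), PrimeSpectrum.comap_comp_apply]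
  apply PrimeSpectrum.ext
  have h1 : (PrimeSpectrum.comap (algebraMap κ (κ ⊗[R] B)) p).asIdeal = ⊥ :=
    (Ideal.eq_bot_or_top _).resolve_right (PrimeSpectrum.isPrime _).ne_top
  rw [PrimeSpectrum.comap_asIdeal, h1]
  exact q.asIdeal.ker_algebraMap_residueField

end K502.RankTower
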