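import Groth.Agent.Hopf.K502.Pts
import Mathlib.Algebra.Algebra.Epi
import Mathlib.RingTheory.Finiteness.Basic

/-!
# Homomorphisms of group schemes with trivial kernel
-/

set_option autoImplicit false
open TensorProduct WithConv

namespace K502.TrivKer

open K502.Pts

variable {R A B C : Type*} [CommRing R] [CommRing A] [CommRing B] [CommRing C]
  [HopfAlgebra R A] [HopfAlgebra R B] [Algebra R C]

lemma pre_eq_one_iff (f : B →ₐc[R] A) (g : WithConv (A →ₐ[R] C)) :
    pre f g = 1 ↔ kerIdeal f ≤ RingHom.ker g.ofConv := by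
  rw [eq_one_iff, kerIdeal_le_iff]
  exact Iff.rfl

/-- a homomorphism of group schemes with trivial kernel is a monomorphism. -/
theorem eq_of_comp_eq (f : B →ₐc[R] A) (hker : RingHom.ker (Bialgebra.counitAlgHom R A) ≤ kerIdeal f)
    (i₁ i₂ : A →ₐ[R] C) (h : i₁.comp (f : B →ₐ[R] A) = i₂.comp (f : B →ₐ[R] A)) : i₁ = i₂ := by
  have h1 : pre f (ptInv (toConv i₁) * toConv i₂) = 1 := by
    rw [map_mul, pre_ptInv]
    have h2 : pre f (toConv i₁) = pre f (toConv i₂) := congrArg toConv h
    rw [h2, ptInv_mul]
  rw [pre_eq_one_iff] at h1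
  have h3 : ptInv (toConv i₁) * toConv i₂ = 1 := by
    rw [eq_one_iff]
    intro a ha
    exact h1 (hker ha)
  have h4 : toConv i₂ = toConv i₁ := by
    calc toConv i₂ = toConv i₁ * (ptInv (toConv i₁) * toConv i₂) := by
          rw [← mul_assoc, mul_ptInv, one_mul]
      _ = toConv i₁ := by rw [h3, mul_one]
  exact (WithConv.toConv_injective h4).symm

/-- A homomorphism of group schemes `Spec A → Spec B` with `A` finite over `B` and trivial kernel is a
closed immersion. -/
theorem surjective_of_finite (f : B →ₐc[R] A) (hfin : (f : B →+* A).Finite)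
    (hker : RingHom.ker (Bialgebra.counitAlgHom R A) ≤ kerIdeal f) : Function.Surjective f := by
  algebraize [(f : B →+* A)]
  have : IsScalarTower R B A := IsScalarTower.of_algebraMap_eq fun r => (AlgHomClass.commutes f r).symm
  let i₁ : A →ₐ[R] A ⊗[B] A := Algebra.TensorProduct.includeLeft
  let i₂ : A →ₐ[R] A ⊗[B] A := (Algebra.TensorProduct.includeRight : A →ₐ[B] A ⊗[B] A).restrictScalars R
  have h : i₁ = i₂ := by
    apply eq_of_comp_eq f hker
    ext b
    have h1 := (Algebra.TensorProduct.includeLeft : A →ₐ[B] A ⊗[B] A).commutes b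
    have h2 := (Algebra.TensorProduct.includeRight : A →ₐ[B] A ⊗[B] A).commutes b
    exact h1.trans h2.symm
  have : Algebra.IsEpi B A := by
    rw [Algebra.isEpi_iff_forall_one_tmul_eq]
    intro a
    exact (AlgHom.congr_fun h a).symm
  exact Algebra.isEpi_iff_surjective_algebraMap_of_finite.1 this

end K502.TrivKer
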